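import Mathlib
import Cfsg.Prelude.Def_Classical

/-!
# Interface for the groups with the prime graph of `PSU(4,5)` (helper413)

`Gr G` : the information about the prime graph which is used; `Sec G K S` : `K` is the solvable radical of `G` and
`S` the simple socle of `G ⧸ K`.
-/

set_option autoImplicit false

namespace Cfsg.Agent.H413.U45

universe u

/-- the prime graph of `PSU(4,5)`: vertices 2, 3, 5, 7, 13; non-edges; two edges -/
structure Gr (G : Type u) [Group G] : Prop where
  primes : ∀ p : ℕ, p.Prime → (p ∣ Nat.card G ↔ p = 2 ∨ p = 3 ∨ p = 5 ∨ p = 7 ∨ p = 13)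
  no14 : ∀ g : G, orderOf g ≠ 2 * 7
  no35 : ∀ g : G, orderOf g ≠ 5 * 7
  no39 : ∀ g : G, orderOf g ≠ 3 * 13
  no65 : ∀ g : G, orderOf g ≠ 5 * 13
  no91 : ∀ g : G, orderOf g ≠ 7 * 13
  has26 : ∃ g : G, orderOf g = 2 * 13
  has21 : ∃ g : G, orderOf g = 3 * 7

/-- the solvable radical and the simple socle of the quotient -/
structure Sec (G : Type u) [Group G] (K : Subgroup G) [K.Normal] (S : Subgroup (G ⧸ K)) : Prop where
  solK : Group.IsSolvable K
  normal : S.Normal
  simple : IsSimpleGroup S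
  nab : ¬ IsMulCommutative S
  cent : Subgroup.centralizer (S : Set (G ⧸ K)) = ⊥
  solQ : ∀ _ : S.Normal, Group.IsSolvable ((G ⧸ K) ⧸ S)

end Cfsg.Agent.H413.U45
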