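import Cfsg.Agent.H413.FrobLift
import Cfsg.Agent.Solvable.FpfPGroup
import Cfsg.Agent.S0016
import Cfsg.Agent.H421.Act

/-!
# Nonadjacent primes: Sylow subgroups of the quotient (helper413)

`K` normal in `G`, `t` divides `|K|`, no element of order `r t`. Then every `r`-subgroup of `G ⧸ K` is the image of a
cyclic or quaternion group: `comm_mem` (`r` odd: commuting elements of order `r`), `three_inv` (`r = 2`).
-/

set_option autoImplicit false

namespace Cfsg.Agent.H413.U45

open Subgroup Cfsg.Agent.H413.FrobLift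

universe u

theorem lift_cyc {G : Type u} [Group G] [Finite G] (K : Subgroup G) [K.Normal] {t r : ℕ} (ht : t.Prime) (hr : r.Prime)
    (hrt : r ≠ t) (htK : t ∣ Nat.card K) (hno : ∀ g : G, orderOf g ≠ r * t) (E : Subgroup (G ⧸ K))
    (hE : IsPGroup r E) :
    ∃ P : Subgroup G, IsPGroup r P ∧ P.map (QuotientGroup.mk' K) = E ∧
      (IsCyclic P ∨ (r = 2 ∧ ∃ n : ℕ, Nonempty (P ≃* QuaternionGroup n))) := by
  classical
  have hft : Fact t.Prime := ⟨ht⟩
  have hfr : Fact r.Prime := ⟨hr⟩
  obtain ⟨T⟩ : Nonempty (Sylow t K) := inferInstance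
  set PG : Subgroup G := (T : Subgroup K).map K.subtype with hPGdef
  have hPG : IsPGroup t PG := T.isPGroup'.map K.subtype
  have hPGne : PG ≠ ⊥ := by
    intro h
    rw [hPGdef, Subgroup.map_eq_bot_iff_of_injective _ K.subtype_injective] at h
    have h1 : Nat.card T = 1 := by
      rw [← Subgroup.card_bot (G := K), ← h]
    rw [Sylow.card_eq_multiplicity] at h1
    have h2 : 0 < (Nat.card K).factorization t :=
      ht.factorization_pos_of_dvd Nat.card_pos.ne' htK
    have h3 := Nat.one_lt_pow h2.ne' ht.one_lt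
    omega
  set N : Subgroup G := normalizer (PG : Set G) with hN
  have hNK : N ⊔ K = ⊤ := Sylow.normalizer_sup_eq_top T
  let π : N →* G ⧸ K := (QuotientGroup.mk' K).comp N.subtype
  have hπ : Function.Surjective π := by
    intro y
    obtain ⟨g, rfl⟩ := QuotientGroup.mk'_surjective K y
    have hg : g ∈ N ⊔ K := by rw [hNK]; trivial
    obtain ⟨n, hn, k, hk, rfl⟩ := (Subgroup.mem_sup_of_normal_right).1 hg
    refine ⟨⟨n, hn⟩, ?_⟩
    change QuotientGroup.mk' K n = QuotientGroup.mk' K (n * k)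
    rw [map_mul, show QuotientGroup.mk' K k = 1 from (QuotientGroup.eq_one_iff k).2 hk, mul_one]
  obtain ⟨P', d, hP', hPE, -, -⟩ := exists_lift π hπ hr E hE (c := 1) (one_mem _)
  set P : Subgroup G := P'.map N.subtype with hPdef
  have hP : IsPGroup r P := hP'.map N.subtype
  have hPN : P ≤ N := by
    rintro - ⟨x, -, rfl⟩
    exact x.2
  refine ⟨P, hP, ?_, ?_⟩
  · rw [hPdef, Subgroup.map_map, ← hPE]
  · have hfpf : ∀ a ∈ P, a ≠ 1 → PG ⊓ Subgroup.centralizer {a} = ⊥ := by
      intro a ha ha1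
      rw [eq_bot_iff]
      rintro v ⟨hv, hvc⟩
      by_contra hv1
      have hv1 : v ≠ 1 := fun h => hv1 (Subgroup.mem_bot.2 h)
      have hc : Commute a v := (Subgroup.mem_centralizer_singleton_iff.1 hvc).symm
      have h1 : r ∣ orderOf a := by
        obtain ⟨k, hk⟩ := (IsPGroup.iff_orderOf.1 hP) ⟨a, ha⟩
        rw [Subgroup.orderOf_mk] at hk
        rcases Nat.eq_zero_or_pos k with rfl | hk0
        · rw [pow_zero] at hk
          exact absurd (orderOf_eq_one_iff.1 hk) ha1
        · rw [hk]; exact dvd_pow_self r hk0.ne'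
      have h2 : t ∣ orderOf v := by
        obtain ⟨k, hk⟩ := (IsPGroup.iff_orderOf.1 hPG) ⟨v, hv⟩
        rw [Subgroup.orderOf_mk] at hk
        rcases Nat.eq_zero_or_pos k with rfl | hk0
        · rw [pow_zero] at hk
          exact absurd (orderOf_eq_one_iff.1 hk) hv1
        · rw [hk]; exact dvd_pow_self t hk0.ne'
      obtain ⟨g, hg⟩ := Cfsg.Agent.H421.Act.exists_mul_order hc hr ht hrt h1 h2
      exact hno g hg
    have huniq : ∀ L₁ L₂ : Subgroup P, Nat.card L₁ = r → Nat.card L₂ = r → L₁ = L₂ := fun L₁ L₂ h₁ h₂ =>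
      Cfsg.Agent.Solvable.FpfPGroup.unique_subgroup_of_fpf P PG hPGne hPN hfpf hr hP P.subtype
        P.subtype_injective (fun x => x.2) L₁ L₂ h₁ h₂
    rcases Cfsg.Agent.S0016.result r hP huniq with h | ⟨h, n, e⟩
    · exact Or.inl h
    · exact Or.inr ⟨h, _, e⟩

/-- in a finite cyclic group, an element whose order divides that of `z` is a power of `z` -/
theorem mem_zpowers_of_orderOf {A : Type*} [Group A] [Finite A] [IsCyclic A] {x z : A}
    (h : orderOf x ∣ orderOf z) : x ∈ Subgroup.zpowers z := by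
  classical
  have := Fintype.ofFinite A
  have h1 := IsCyclic.card_pow_eq_one_le (α := A) (n := orderOf z) (orderOf_pos z)
  have h2 : (Finset.univ.filter fun a : A => a ∈ Subgroup.zpowers z) ⊆
      (Finset.univ.filter fun a : A => a ^ orderOf z = 1) := by
    intro a ha
    simp only [Finset.mem_filter, Finset.mem_univ, true_and] at ha ⊢
    obtain ⟨k, rfl⟩ := Subgroup.mem_zpowers_iff.1 ha
    rw [← zpow_natCast, ← zpow_mul, mul_comm, zpow_mul, zpow_natCast, pow_orderOf_eq_one, one_zpow]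
  have h3 : (Finset.univ.filter fun a : A => a ∈ Subgroup.zpowers z).card = orderOf z := by
    rw [← Nat.card_zpowers, Nat.card_eq_fintype_card, Fintype.card_subtype]
  have h4 := Finset.eq_of_subset_of_card_le h2 (by rw [h3]; exact h1)
  have h5 : x ∈ (Finset.univ.filter fun a : A => a ^ orderOf z = 1) := by
    simp only [Finset.mem_filter, Finset.mem_univ, true_and]
    exact orderOf_dvd_iff_pow_eq_one.1 h
  rw [← h4] at h5
  simpa using h5

/-- `r` odd: commuting elements of order `r` generate a cyclic group -/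
theorem comm_mem {G : Type u} [Group G] [Finite G] (K : Subgroup G) [K.Normal] {t r : ℕ} (ht : t.Prime) (hr : r.Prime)
    (hr2 : r ≠ 2) (hrt : r ≠ t) (htK : t ∣ Nat.card K) (hno : ∀ g : G, orderOf g ≠ r * t) {x y : G ⧸ K}
    (hx : orderOf x = r) (hy : orderOf y = r) (hxy : x * y = y * x) : y ∈ Subgroup.zpowers x := by
  classical
  have hfr : Fact r.Prime := ⟨hr⟩
  have hcomm : ∀ a ∈ ({x, y} : Set (G ⧸ K)), ∀ b ∈ ({x, y} : Set (G ⧸ K)), a * b = b * a := by
    rintro a (rfl | rfl) b (rfl | rfl)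
    · rfl
    · exact hxy
    · exact hxy.symm
    · rfl
  have hCc := Subgroup.isMulCommutative_closure hcomm
  have hmc : ∀ a b : closure ({x, y} : Set (G ⧸ K)), a * b = b * a := fun a b => hCc.is_comm.comm a b
  have hE : IsPGroup r (closure ({x, y} : Set (G ⧸ K))) := by
    intro z
    refine ⟨1, ?_⟩
    have : ∀ z ∈ closure ({x, y} : Set (G ⧸ K)), z ^ r = 1 ∧ z ∈ closure ({x, y} : Set (G ⧸ K)) := by
      intro z hz
      refine ⟨?_, hz⟩
      induction hz using Subgroup.closure_induction with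
      | mem a ha =>
        rcases ha with rfl | rfl
        · rw [← hx]; exact pow_orderOf_eq_one _
        · rw [← hy]; exact pow_orderOf_eq_one _
      | one => exact one_pow _
      | mul a b ha hb iha ihb =>
        have hab : Commute a b := by
          have h1 : (⟨a, ha⟩ : closure ({x, y} : Set (G ⧸ K))) * ⟨b, hb⟩ = ⟨b, hb⟩ * ⟨a, ha⟩ := hmc _ _
          exact congrArg Subtype.val h1
        rw [hab.mul_pow, iha, ihb, one_mul]
      | inv a ha iha => rw [inv_pow, iha, inv_one]
    rw [pow_one]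
    exact Subtype.ext (this z z.2).1
  obtain ⟨P, hP, hPE, hc | ⟨h2, -⟩⟩ := lift_cyc K ht hr hrt htK hno _ hE
  · have hcE : IsCyclic (closure ({x, y} : Set (G ⧸ K))) := by
      rw [← hPE]
      exact isCyclic_of_surjective ((QuotientGroup.mk' K).subgroupMap P) ((QuotientGroup.mk' K).subgroupMap_surjective P)
    have hx' : x ∈ closure ({x, y} : Set (G ⧸ K)) := subset_closure (by simp)
    have hy' : y ∈ closure ({x, y} : Set (G ⧸ K)) := subset_closure (by simp)
    have h1 : (⟨y, hy'⟩ : closure ({x, y} : Set (G ⧸ K))) ∈ Subgroup.zpowers ⟨x, hx'⟩ := by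
      apply mem_zpowers_of_orderOf
      rw [Subgroup.orderOf_mk, Subgroup.orderOf_mk, hx, hy]
    obtain ⟨k, hk⟩ := h1
    exact ⟨k, congrArg Subtype.val hk⟩
  · exact absurd h2 hr2

theorem a_one_zpow (n : ℕ) (k : ℤ) : (QuaternionGroup.a 1 : QuaternionGroup n) ^ k = QuaternionGroup.a (k : ZMod (2 * n)) := by
  induction k using Int.induction_on with
  | zero => rw [zpow_zero, Int.cast_zero]; rfl
  | succ i ih => rw [zpow_add_one, ih, QuaternionGroup.a_mul_a]; push_cast; rfl
  | pred i ih =>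
    rw [zpow_sub_one, ih]
    have h1 : (QuaternionGroup.a 1 : QuaternionGroup n)⁻¹ = QuaternionGroup.a (-1) := rfl
    rw [h1, QuaternionGroup.a_mul_a]
    push_cast
    rw [sub_eq_add_neg]

/-- elementary abelian images of cyclic and quaternion groups have order at most 4 -/
theorem card_le_four {P E : Type*} [Group P] [Finite P] [Group E] (f : P →* E) (hf : Function.Surjective f)
    (hE : ∀ e : E, e * e = 1)
    (hP : IsCyclic P ∨ ∃ n : ℕ, Nonempty (P ≃* QuaternionGroup n)) : Nat.card E ≤ 4 := by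
  classical
  have hcomm : ∀ a b : E, a * b = b * a := by
    intro a b
    have h1 : a * b * (a * b) = 1 := hE _
    have h2 : a⁻¹ = a := inv_eq_of_mul_eq_one_left (hE a)
    have h3 : b⁻¹ = b := inv_eq_of_mul_eq_one_left (hE b)
    calc a * b = (a * b)⁻¹ := (inv_eq_of_mul_eq_one_left (hE _)).symm
      _ = b⁻¹ * a⁻¹ := mul_inv_rev _ _
      _ = b * a := by rw [h2, h3]
  have key : ∃ u v : E, ∀ e : E, ∃ i j : ℤ, e = u ^ i * v ^ j := by
    rcases hP with h | ⟨n, ⟨e⟩⟩
    · obtain ⟨g, hg⟩ := h.exists_generator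
      refine ⟨f g, 1, fun x => ?_⟩
      obtain ⟨y, rfl⟩ := hf x
      obtain ⟨k, rfl⟩ := hg y
      exact ⟨k, 0, by simp⟩
    · refine ⟨f (e.symm (QuaternionGroup.xa 0)), f (e.symm (QuaternionGroup.a 1)), fun x => ?_⟩
      obtain ⟨y, rfl⟩ := hf x
      obtain ⟨z, rfl⟩ := e.symm.surjective y
      rcases z with i | i
      · obtain ⟨k, rfl⟩ := ZMod.intCast_surjective i
        refine ⟨0, k, ?_⟩
        rw [zpow_zero, one_mul, ← map_zpow, ← map_zpow, a_one_zpow]
      · obtain ⟨k, rfl⟩ := ZMod.intCast_surjective i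
        refine ⟨1, k, ?_⟩
        rw [zpow_one, ← map_zpow, ← map_zpow, ← map_mul, ← map_mul, a_one_zpow, QuaternionGroup.xa_mul_a, zero_add]
  obtain ⟨u, v, h⟩ := key
  have hz : ∀ (w : E) (i : ℤ), w ^ i = 1 ∨ w ^ i = w := by
    intro w i
    have h2 : w ^ (2 : ℤ) = 1 := by rw [zpow_two]; exact hE w
    rcases Int.even_or_odd' i with ⟨k, rfl | rfl⟩
    · left; rw [zpow_mul, h2, one_zpow]
    · right; rw [zpow_add, zpow_mul, h2, one_zpow, one_mul, zpow_one]
  have h1 : (Set.univ : Set E) ⊆ (({1, u, v, u * v} : Finset E) : Set E) := by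
    intro e _
    obtain ⟨i, j, rfl⟩ := h e
    rcases hz u i with h1 | h1 <;> rcases hz v j with h2 | h2 <;> rw [h1, h2] <;> simp
  have h2 := Set.ncard_le_ncard h1 (Finset.finite_toSet _)
  rw [Set.ncard_univ, Set.ncard_coe_finset] at h2
  exact h2.trans Finset.card_le_four

/-- `r = 2`: no elementary abelian subgroup of order 8 -/
theorem three_inv {G : Type u} [Group G] [Finite G] (K : Subgroup G) [K.Normal] {t : ℕ} (ht : t.Prime)
    (h2t : t ≠ 2) (htK : t ∣ Nat.card K) (hno : ∀ g : G, orderOf g ≠ 2 * t) (E : Subgroup (G ⧸ K))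
    (hE : ∀ e ∈ E, e * e = 1) : Nat.card E ≤ 4 := by
  have hP : IsPGroup 2 E := fun e => ⟨1, Subtype.ext (by
    rw [pow_one, pow_two]
    exact hE e e.2)⟩
  obtain ⟨P, hP, hPE, h⟩ := lift_cyc K ht Nat.prime_two (Ne.symm h2t) htK hno E hP
  rw [← hPE]
  refine card_le_four ((QuotientGroup.mk' K).subgroupMap P) ((QuotientGroup.mk' K).subgroupMap_surjective P) ?_ ?_
  · rintro ⟨e, he⟩
    rw [hPE] at he
    exact Subtype.ext (hE e he)
  · rcases h with h | ⟨-, h⟩
    · exact Or.inl h
    · exact Or.inr h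

end Cfsg.Agent.H413.U45
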