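import Cfsg.Agent.H413.U45.Chief
import Cfsg.Agent.H421.Coclique
import Cfsg.Agent.H380.UF.AutL13
import Cfsg.Agent.H422.LTwoThirteen

/-!
# Groups with the prime graph of `PSU(4,5)`: the socle is not `L₂(13)` (helper413)
-/

set_option autoImplicit false

namespace Cfsg.Agent.H413.U45.ExclL

universe u

/-- at most one of 5, 7, 13 divides `|K| |G/K : S|` -/
theorem one_prime {G : Type u} [Group G] [Finite G] (h : Gr G) {K : Subgroup G} [K.Normal] {S : Subgroup (G ⧸ K)}
    (hs : Sec G K S) {r s : ℕ} (hr : r ∈ ({5, 7, 13} : Finset ℕ)) (hs' : s ∈ ({5, 7, 13} : Finset ℕ))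
    (hrd : r ∣ Nat.card K * S.index) (hsd : s ∣ Nat.card K * S.index) : r = s := by
  classical
  have hSn := hs.normal
  let φ : G →* (G ⧸ K) ⧸ S := (QuotientGroup.mk' S).comp (QuotientGroup.mk' K)
  have hφ : Function.Surjective φ := (QuotientGroup.mk'_surjective S).comp (QuotientGroup.mk'_surjective K)
  have hKM : K ≤ φ.ker := by
    intro k hk
    rw [MonoidHom.mem_ker]
    change QuotientGroup.mk' S (QuotientGroup.mk' K k) = 1
    rw [show QuotientGroup.mk' K k = 1 from (QuotientGroup.eq_one_iff k).2 hk, map_one]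
  have hsol : Group.IsSolvable (G ⧸ φ.ker) := by
    have := hs.solQ hSn
    exact Group.isSolvable_of_isSolvable_injective (QuotientGroup.kerLift_injective φ)
  have hidx : φ.ker.index = S.index := by
    rw [Subgroup.index_ker, MonoidHom.range_eq_top.2 hφ, Subgroup.card_top, ← Subgroup.index_eq_card]
  refine Cfsg.Agent.H421.Coclique.coclique_sections K φ.ker hKM hs.solK hsol {5, 7, 13} (by decide) ?_ ?_ hr hs'
    (by rw [hidx]; exact hrd) (by rw [hidx]; exact hsd)
  · intro x hx
    simp only [Finset.mem_insert, Finset.mem_singleton] at hx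
    rcases hx with rfl | rfl | rfl
    · exact ⟨by norm_num, (h.primes 5 (by norm_num)).2 (by norm_num)⟩
    · exact ⟨by norm_num, (h.primes 7 (by norm_num)).2 (by norm_num)⟩
    · exact ⟨by norm_num, (h.primes 13 (by norm_num)).2 (by norm_num)⟩
  · intro x hx y hy hxy
    simp only [Finset.mem_insert, Finset.mem_singleton] at hx hy
    rintro ⟨g, hg⟩
    rcases hx with rfl | rfl | rfl <;> rcases hy with rfl | rfl | rfl
    · exact hxy rfl
    · exact h.no35 g hg
    · exact h.no65 g hg
    · exact h.no35 g (by rw [hg, mul_comm])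
    · exact hxy rfl
    · exact h.no91 g hg
    · exact h.no65 g (by rw [hg, mul_comm])
    · exact h.no91 g (by rw [hg, mul_comm])
    · exact hxy rfl

theorem card_eq {G : Type u} [Group G] [Finite G] (K : Subgroup G) [K.Normal] (S : Subgroup (G ⧸ K)) :
    Nat.card G = Nat.card K * (Nat.card S * S.index) := by
  rw [S.card_mul_index]
  exact (Subgroup.card_eq_card_quotient_mul_card_subgroup K).trans (mul_comm _ _)

theorem no_psl213 {G : Type u} [Group G] [Finite G] (hG : Gr G) (K : Subgroup G) [K.Normal] (S : Subgroup (G ⧸ K))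
    (hS : Sec G K S) : ¬ Cfsg.Agent.OrdDiv.Real (.psl 2 13) S := by
  intro hR
  have hSn := hS.normal
  have hcS : Nat.card S = 1092 := by
    obtain ⟨F, _, _, hF, ⟨e⟩⟩ := hR
    have h6 := Cfsg.Agent.S0243.result (F := F) hF 2 le_rfl
    rw [← Nat.card_congr e.toEquiv, Fin.prod_univ_two] at h6
    norm_num at h6
    omega
  have hidx : S.index ∣ 2 := Cfsg.Agent.H380.UF.AutL13.index_dvd S hR hS.cent
  have hp5 : Nat.Prime 5 := by norm_num
  have h5 : 5 ∣ Nat.card K := by
    have h1 : 5 ∣ Nat.card G := (hG.primes 5 hp5).2 (by norm_num)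
    rw [card_eq K S, hcS] at h1
    rcases hp5.dvd_mul.1 h1 with h | h
    · exact h
    · rcases hp5.dvd_mul.1 h with h | h
      · revert h; norm_num
      · have := h.trans hidx
        revert this; norm_num
  have h7 : ¬ 7 ∣ Nat.card K := fun h => absurd (one_prime hG hS (r := 5) (s := 7) (by decide) (by decide)
    (h5.mul_right _) (h.mul_right _)) (by norm_num)
  have h13 : ¬ 13 ∣ Nat.card K := fun h => absurd (one_prime hG hS (r := 5) (s := 13) (by decide) (by decide)
    (h5.mul_right _) (h.mul_right _)) (by norm_num)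
  obtain ⟨V, _, hVn, _, ρ, hexp, hfpf⟩ := Chief.chief hG K S hS h7 h13 (by rw [hcS]; norm_num) (by rw [hcS]; norm_num)
    hp5 h5
  have key := Cfsg.Agent.H422.LTwoThirteen.zero_of_real hR (ρ.comp S.subtype) hexp
    (fun g hg => hfpf 7 (by norm_num) (by norm_num) (fun x hx => hG.no35 x (hx.trans (by norm_num))) _
      (by rw [Subgroup.coe_subtype, Subgroup.orderOf_coe, hg]))
    (fun g hg => hfpf 13 (by norm_num) (by norm_num) (fun x hx => hG.no65 x (hx.trans (by norm_num))) _
      (by rw [Subgroup.coe_subtype, Subgroup.orderOf_coe, hg]))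
  obtain ⟨a, b, hab⟩ := hVn.exists_pair_ne
  exact hab ((key a).trans (key b).symm)

end Cfsg.Agent.H413.U45.ExclL
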