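import Mathlib

/-!
# Counting fixed points of elements of order 3 and of Frobenius groups of order 21 (helper413)
-/

set_option autoImplicit false

namespace Cfsg.Agent.H413.U45.ModCount

variable {L V : Type*} [Group L] [AddCommGroup V] (ρ : L →* AddMonoid.End V)

theorem mul_ap (f g : AddMonoid.End V) (u : V) : (f * g) u = f (g u) := rfl

variable {ρ} in
theorem ap_mul (a b : L) (v : V) : ρ (a * b) v = ρ a (ρ b v) := by rw [map_mul, mul_ap]

variable {ρ} in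
theorem ap_one (v : V) : ρ 1 v = v := by rw [map_one]; rfl

variable {ρ} in
theorem inv_ap (a : L) (v : V) : ρ a⁻¹ (ρ a v) = v := by rw [← ap_mul, inv_mul_cancel, ap_one]

variable {ρ} in
theorem ap_inv (a : L) (v : V) : ρ a (ρ a⁻¹ v) = v := by rw [← ap_mul, mul_inv_cancel, ap_one]

/-- fixed points -/
def fx (x : L) : AddSubgroup V where
  carrier := {v | ρ x v = v}
  zero_mem' := map_zero _
  add_mem' := by
    intro a b ha hb
    change ρ x (a + b) = a + b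
    rw [map_add]
    exact congrArg₂ (· + ·) ha hb
  neg_mem' := by
    intro a ha
    change ρ x (-a) = -a
    rw [map_neg]
    exact congrArg (fun b => -b) ha

/-- kernel of the trace of an element of order 3 -/
def tk (x : L) : AddSubgroup V where
  carrier := {v | v + ρ x v + ρ x (ρ x v) = 0}
  zero_mem' := by
    change (0 : V) + ρ x 0 + ρ x (ρ x 0) = 0
    simp only [map_zero, add_zero]
  add_mem' := by
    intro a b ha hb
    change (a + b) + ρ x (a + b) + ρ x (ρ x (a + b)) = 0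
    have h : (a + b) + ρ x (a + b) + ρ x (ρ x (a + b)) = (a + ρ x a + ρ x (ρ x a)) + (b + ρ x b + ρ x (ρ x b)) := by
      simp only [map_add]; abel
    rw [h]
    have h1 : a + ρ x a + ρ x (ρ x a) = 0 := ha
    have h2 : b + ρ x b + ρ x (ρ x b) = 0 := hb
    rw [h1, h2, add_zero]
  neg_mem' := by
    intro a ha
    change -a + ρ x (-a) + ρ x (ρ x (-a)) = 0
    have h1 : a + ρ x a + ρ x (ρ x a) = 0 := ha
    have h : -a + ρ x (-a) + ρ x (ρ x (-a)) = -(a + ρ x a + ρ x (ρ x a)) := by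
      simp only [map_neg]; abel
    rw [h, h1, neg_zero]

variable {ρ}

theorem mem_fx {x : L} {v : V} : v ∈ fx ρ x ↔ ρ x v = v := Iff.rfl
theorem mem_tk {x : L} {v : V} : v ∈ tk ρ x ↔ v + ρ x v + ρ x (ρ x v) = 0 := Iff.rfl

theorem x3 {x : L} (hx : x ^ 3 = 1) (v : V) : ρ x (ρ x (ρ x v)) = v := by
  rw [← ap_mul, ← ap_mul, ← pow_two, ← pow_succ, hx, ap_one]

/-- the trace is a fixed point -/
theorem tr_mem {x : L} (hx : x ^ 3 = 1) (v : V) : v + ρ x v + ρ x (ρ x v) ∈ fx ρ x := by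
  rw [mem_fx, map_add, map_add, x3 hx]
  abel

/-- decomposition with respect to an element of order 3 -/
theorem exists_dec {p : ℕ} (hp : ∀ v : V, p • v = 0) (hp3 : p = 2 ∨ p = 5) {x : L} (hx : x ^ 3 = 1) (v : V) :
    ∃ a ∈ fx ρ x, v - a ∈ tk ρ x ∧ ∃ n : ℕ, a = n • (v + ρ x v + ρ x (ρ x v)) := by
  obtain ⟨n, hn⟩ : ∃ n : ℕ, ∀ w : V, (3 * n) • w = w := by
    rcases hp3 with rfl | rfl
    · refine ⟨1, fun w => ?_⟩
      rw [show 3 * 1 = 2 + 1 from rfl, add_smul, hp, zero_add, one_smul]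
    · refine ⟨2, fun w => ?_⟩
      rw [show 3 * 2 = 5 + 1 from rfl, add_smul, hp, zero_add, one_smul]
  refine ⟨n • (v + ρ x v + ρ x (ρ x v)), (fx ρ x).nsmul_mem (tr_mem hx v) n, ?_, n, rfl⟩
  have h1 : ρ x (n • (v + ρ x v + ρ x (ρ x v))) = n • (v + ρ x v + ρ x (ρ x v)) :=
    (fx ρ x).nsmul_mem (tr_mem hx v) n
  rw [mem_tk]
  simp only [map_sub]
  rw [h1, h1]
  have h2 : (3 : ℕ) • n • (v + ρ x v + ρ x (ρ x v)) = v + ρ x v + ρ x (ρ x v) := by
    rw [← mul_smul, hn]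
  have h3 : ∀ t : V, (3 : ℕ) • t = t + t + t := by
    intro t
    rw [show (3 : ℕ) = 1 + 1 + 1 from rfl, add_smul, add_smul, one_smul]
  rw [h3] at h2
  have h4 : v - n • (v + ρ x v + ρ x (ρ x v)) + (ρ x v - n • (v + ρ x v + ρ x (ρ x v))) +
      (ρ x (ρ x v) - n • (v + ρ x v + ρ x (ρ x v))) = (v + ρ x v + ρ x (ρ x v)) -
      (n • (v + ρ x v + ρ x (ρ x v)) + n • (v + ρ x v + ρ x (ρ x v)) + n • (v + ρ x v + ρ x (ρ x v))) := by abel
  rw [h4, h2, sub_self]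

/-- the intersection is trivial -/
theorem eq_zero_of_mem {p : ℕ} (hp : ∀ v : V, p • v = 0) (hp3 : p = 2 ∨ p = 5) {x : L} {v : V}
    (h1 : v ∈ fx ρ x) (h2 : v ∈ tk ρ x) : v = 0 := by
  rw [mem_tk, mem_fx.1 h1, mem_fx.1 h1] at h2
  rcases hp3 with rfl | rfl
  · have h3 := hp v
    rw [show (2 : ℕ) = 1 + 1 from rfl, add_smul, one_smul] at h3
    rwa [h3, zero_add] at h2
  · have h3 := hp v
    rw [show (5 : ℕ) = 1 + 1 + 1 + 1 + 1 from rfl, add_smul, add_smul, add_smul, add_smul, one_smul] at h3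
    have h4 : v + v + v + (v + v + v) = v + v + v + v + v + v := by abel
    rw [h3, h2, zero_add, zero_add] at h4
    exact h4.symm

/-- counting with respect to an element of order 3 acting on a subgroup -/
theorem card_eq [Finite V] {p : ℕ} (hp : ∀ v : V, p • v = 0) (hp3 : p = 2 ∨ p = 5) {x : L} (hx : x ^ 3 = 1)
    (W : AddSubgroup V) (hW : ∀ v ∈ W, ρ x v ∈ W) :
    Nat.card W = Nat.card ↥(W ⊓ fx ρ x) * Nat.card ↥(W ⊓ tk ρ x) := by
  rw [← Nat.card_prod]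
  symm
  refine Nat.card_congr (Equiv.ofBijective
    (fun t : ↥(W ⊓ fx ρ x) × ↥(W ⊓ tk ρ x) => (⟨t.1.1 + t.2.1, W.add_mem t.1.2.1 t.2.2.1⟩ : W)) ⟨?_, ?_⟩)
  · rintro ⟨⟨a, ha⟩, ⟨b, hb⟩⟩ ⟨⟨c, hc⟩, ⟨d, hd⟩⟩ h
    have h1 : a + b = c + d := congrArg Subtype.val h
    have h2 : a - c = d - b := by
      rw [sub_eq_sub_iff_add_eq_add, h1, add_comm]
    have h3 : a - c = 0 := eq_zero_of_mem hp hp3 ((fx ρ x).sub_mem ha.2 hc.2) (by
      rw [h2]; exact (tk ρ x).sub_mem hd.2 hb.2)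
    have h4 : a = c := sub_eq_zero.1 h3
    have h5 : b = d := by rw [h3] at h2; exact (sub_eq_zero.1 h2.symm).symm
    subst h4; subst h5
    rfl
  · rintro ⟨v, hv⟩
    obtain ⟨a, ha, hb, n, hn⟩ := exists_dec (ρ := ρ) hp hp3 hx v
    have haW : a ∈ W := by
      rw [hn]
      exact W.nsmul_mem (W.add_mem (W.add_mem hv (hW _ hv)) (hW _ (hW _ hv))) n
    refine ⟨(⟨a, haW, ha⟩, ⟨v - a, W.sub_mem hv haW, hb⟩), ?_⟩
    apply Subtype.ext
    change a + (v - a) = v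
    abel

/-- conjugate elements -/
theorem card_fx_conj (g x y : L) (h : g * x = y * g) : Nat.card (fx ρ x) = Nat.card (fx ρ y) := by
  refine Nat.card_congr
    { toFun := fun v => ⟨ρ g v, ?_⟩
      invFun := fun v => ⟨ρ g⁻¹ v, ?_⟩
      left_inv := fun v => Subtype.ext (inv_ap g _)
      right_inv := fun v => Subtype.ext (ap_inv g _) }
  · rw [mem_fx, ← ap_mul, ← h, ap_mul, mem_fx.1 v.2]
  · have h1 : x * g⁻¹ = g⁻¹ * y := by
      rw [eq_inv_mul_iff_mul_eq, ← mul_assoc, h, mul_inv_cancel_right]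
    rw [mem_fx, ← ap_mul, h1, ap_mul, mem_fx.1 v.2]

theorem card_tk_conj (g x y : L) (h : g * x = y * g) : Nat.card (tk ρ x) = Nat.card (tk ρ y) := by
  have h1 : x * g⁻¹ = g⁻¹ * y := by
    rw [eq_inv_mul_iff_mul_eq, ← mul_assoc, h, mul_inv_cancel_right]
  have e1 : ∀ v, ρ y (ρ g v) = ρ g (ρ x v) := fun v => by rw [← ap_mul, ← h, ap_mul]
  have e2 : ∀ v, ρ x (ρ g⁻¹ v) = ρ g⁻¹ (ρ y v) := fun v => by rw [← ap_mul, h1, ap_mul]
  refine Nat.card_congr
    { toFun := fun v => ⟨ρ g v, ?_⟩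
      invFun := fun v => ⟨ρ g⁻¹ v, ?_⟩
      left_inv := fun v => Subtype.ext (inv_ap g _)
      right_inv := fun v => Subtype.ext (ap_inv g _) }
  · rw [mem_tk, e1, e1, ← map_add, ← map_add, mem_tk.1 v.2, map_zero]
  · rw [mem_tk, e2, e2, ← map_add, ← map_add, mem_tk.1 v.2, map_zero]

/-- Frobenius groups of order 21: `|C_V(m)|³ ≤ |V|` -/
theorem card_cube_le [Finite V] {c m : L} (hc : c ^ 7 = 1) (hm : m * c = c ^ 2 * m)
    (h7 : ∀ v : V, ρ c v = v → v = 0) : Nat.card (fx ρ m) ^ 3 ≤ Nat.card V := by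
  have hcm : c ^ 8 = c := by rw [pow_succ, hc, one_mul]
  have m1 : m * c ^ 2 = c ^ 4 * m := by
    rw [pow_two, ← mul_assoc, hm, mul_assoc, hm, ← mul_assoc, ← pow_add]
  have m2 : m * c ^ 4 = c * m := by
    have : m * c ^ 4 = c ^ 8 * m := by
      rw [show 4 = 2 + 2 from rfl, pow_add, ← mul_assoc, m1, mul_assoc, m1, ← mul_assoc, ← pow_add]
    rw [this, hcm]
  -- powers of `c` have no fixed points
  have hk : ∀ k : ℕ, Nat.Coprime k 7 → ∀ v : V, ρ (c ^ k) v = v → v = 0 := by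
    intro k hk v hv
    apply h7
    obtain ⟨l, hl⟩ : ∃ l : ℕ, c ^ (k * l) = c := by
      obtain ⟨l, hl⟩ := Nat.exists_mul_mod_eq_one_of_coprime hk (by norm_num)
      refine ⟨l, ?_⟩
      rw [← Nat.div_add_mod (k * l) 7, hl.2, pow_add, pow_mul, hc, one_pow, one_mul, pow_one]
    have h2 : ∀ l : ℕ, ρ (c ^ (k * l)) v = v := by
      intro l
      induction l with
      | zero => rw [mul_zero, pow_zero, ap_one]
      | succ l ih => rw [Nat.mul_succ, pow_add, ap_mul, hv, ih]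
    have h3 := h2 l
    rwa [hl] at h3
  have hd : ∀ i j : ℕ, i < j → Nat.Coprime (j - i) 7 → ∀ v : V, ρ (c ^ j) v = ρ (c ^ i) v → v = 0 := by
    intro i j hij hco v hv
    apply hk (j - i) hco
    have h1 : c ^ j = c ^ i * c ^ (j - i) := by rw [← pow_add]; congr 1; omega
    rw [h1, ap_mul] at hv
    have h2 := congrArg (ρ (c ^ i)⁻¹) hv
    rwa [inv_ap, inv_ap] at h2
  -- injectivity
  have hinj : Function.Injective
      (fun t : fx ρ m × fx ρ m × fx ρ m => t.1.1 + ρ c t.2.1.1 + ρ (c ^ 2) t.2.2.1) := by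
    have key : ∀ a ∈ fx ρ m, ∀ b ∈ fx ρ m, ∀ d ∈ fx ρ m, a + ρ c b + ρ (c ^ 2) d = 0 → a = 0 ∧ b = 0 ∧ d = 0 := by
      intro a ha b hb d hd' h
      have e1 : a + ρ (c ^ 2) b + ρ (c ^ 4) d = 0 := by
        have := congrArg (ρ m) h
        rw [map_zero, map_add, map_add, mem_fx.1 ha, ← ap_mul, hm, ap_mul, mem_fx.1 hb, ← ap_mul, m1, ap_mul,
          mem_fx.1 hd'] at this
        exact this
      have e2 : a + ρ (c ^ 4) b + ρ c d = 0 := by
        have := congrArg (ρ m) e1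
        rw [map_zero, map_add, map_add, mem_fx.1 ha, ← ap_mul, m1, ap_mul, mem_fx.1 hb, ← ap_mul, m2, ap_mul,
          mem_fx.1 hd'] at this
        exact this
      -- `b + (c + c²) d = 0`
      have f1 : b + (ρ c d + ρ (c ^ 2) d) = 0 := by
        apply hd 1 2 (by norm_num) (by norm_num)
        rw [pow_one, map_add, map_add, map_add, map_add, ← ap_mul, ← ap_mul, ← ap_mul, ← ap_mul, ← pow_succ,
          ← pow_succ', ← pow_add, ← pow_two, ← sub_eq_zero]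
        have h1 : ρ (c ^ 2) b + (ρ (c ^ (2 + 1)) d + ρ (c ^ (2 + 2)) d) - (ρ c b + (ρ (c ^ 2) d + ρ (c ^ (2 + 1)) d)) =
            (a + ρ (c ^ 2) b + ρ (c ^ 4) d) - (a + ρ c b + ρ (c ^ 2) d) := by
          rw [show 2 + 2 = 4 from rfl]
          abel
        rw [h1, e1, h, sub_zero]
      have f2 : b + (ρ c d + ρ (c ^ 4) d) = 0 := by
        apply hd 1 4 (by norm_num) (by norm_num)
        rw [pow_one, map_add, map_add, map_add, map_add, ← ap_mul, ← ap_mul, ← ap_mul, ← ap_mul, ← pow_succ,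
          ← pow_succ', ← pow_add, ← pow_two, ← sub_eq_zero]
        have h1 : ρ (c ^ 4) b + (ρ (c ^ (4 + 1)) d + ρ (c ^ (4 + 4)) d) - (ρ c b + (ρ (c ^ 2) d + ρ (c ^ (4 + 1)) d)) =
            (a + ρ (c ^ 4) b + ρ c d) - (a + ρ c b + ρ (c ^ 2) d) := by
          rw [show 4 + 4 = 8 from rfl, hcm]
          abel
        rw [h1, e2, h, sub_zero]
      have f3 : d = 0 := by
        apply hd 2 4 (by norm_num) (by norm_num)
        have h1 : ρ c d + ρ (c ^ 4) d = ρ c d + ρ (c ^ 2) d := by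
          rw [← add_right_inj b, f2, f1]
        exact add_left_cancel h1
      subst f3
      have f4 : b = 0 := by simpa using f1
      subst f4
      have f5 : a = 0 := by simpa using h
      exact ⟨f5, rfl, rfl⟩
    rintro ⟨⟨a, ha⟩, ⟨b, hb⟩, ⟨d, hd'⟩⟩ ⟨⟨a', ha'⟩, ⟨b', hb'⟩, ⟨d', hd''⟩⟩ h
    have h1 : a + ρ c b + ρ (c ^ 2) d = a' + ρ c b' + ρ (c ^ 2) d' := h
    have h2 : (a - a') + ρ c (b - b') + ρ (c ^ 2) (d - d') = 0 := by
      rw [map_sub, map_sub]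
      have h3 : a - a' + (ρ c b - ρ c b') + (ρ (c ^ 2) d - ρ (c ^ 2) d') =
          (a + ρ c b + ρ (c ^ 2) d) - (a' + ρ c b' + ρ (c ^ 2) d') := by abel
      rw [h3, h1, sub_self]
    obtain ⟨g1, g2, g3⟩ := key _ ((fx ρ m).sub_mem ha ha') _ ((fx ρ m).sub_mem hb hb') _
      ((fx ρ m).sub_mem hd' hd'') h2
    have g1' := sub_eq_zero.1 g1
    have g2' := sub_eq_zero.1 g2
    have g3' := sub_eq_zero.1 g3
    subst g1'; subst g2'; subst g3'
    rfl
  have h1 := Nat.card_le_card_of_injective _ hinj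
  rw [Nat.card_prod, Nat.card_prod] at h1
  calc Nat.card (fx ρ m) ^ 3 = Nat.card (fx ρ m) * (Nat.card (fx ρ m) * Nat.card (fx ρ m)) := by ring
    _ ≤ _ := h1

end Cfsg.Agent.H413.U45.ModCount
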