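import Cfsg.Agent.H413.U45.Elts
import Cfsg.Agent.H413.U45.ModCount

/-!
# Modules for `PSU₄(5)` in characteristic 2 on which elements of order 7 act fixed-point-freely (helper413)
-/

set_option autoImplicit false

namespace Cfsg.Agent.H413.U45.KerTwo

open Cfsg.Agent.H380.UF Cfsg.Agent.H413.U45.Elts Cfsg.Agent.H413.U45.ModCount
open Cfsg.Agent.H413.U45.ASeven (A7 xA yA cA mA)

/-- the element of order 3 normalizing the 7-cycle -/
def m3A : A7 := ⟨ASeven.perm [0, 2, 4, 6, 1, 3, 5] [0, 4, 1, 5, 2, 6, 3] (by decide),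
  Equiv.Perm.mem_alternatingGroup.2 (by decide +kernel)⟩

/-- conjugating element -/
def kA : A7 := ⟨ASeven.perm [1, 2, 4, 3, 6, 5, 0] [6, 0, 1, 3, 2, 5, 4] (by decide),
  Equiv.Perm.mem_alternatingGroup.2 (by decide +kernel)⟩

theorem m3_conj : m3A * cA = cA ^ 2 * m3A := ASeven.code_inj (by decide +kernel)
theorem k_conj : kA * (xA * yA) = m3A * kA := ASeven.code_inj (by decide +kernel)

section

variable {V : Type*} [AddCommGroup V] [Finite V] (σ : A7 →* AddMonoid.End V)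

variable {σ}

/-- the structure of `V` as a module for `A₇` -/
theorem seven {p : ℕ} (hp3 : p = 2 ∨ p = 5) (hp : ∀ v : V, p • v = 0) (h7 : ∀ v : V, σ cA v = v → v = 0) :
    tk σ xA ≤ fx σ yA ∧ Nat.card V = Nat.card (fx σ (xA * yA)) * Nat.card (tk σ xA) ^ 2 ∧
      Nat.card (fx σ (xA * yA)) ≤ Nat.card (tk σ xA) := by
  have hx : xA ^ 3 = 1 := ASeven.x_cube
  have hy : yA ^ 3 = 1 := ASeven.y_cube
  have hcomm : xA * yA = yA * xA := ASeven.xy_comm
  have exy : ∀ v, σ xA (σ yA v) = σ yA (σ xA v) := fun v => by rw [← ap_mul, hcomm, ap_mul]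
  -- the certificate
  have h1 : ∀ v ∈ tk σ xA, v ∈ tk σ yA → v = 0 := by
    intro v h1 h2
    exact ASeven.main hp3 hp h7 h1 h2
  have h2 : tk σ xA ≤ fx σ yA := by
    intro v hv
    obtain ⟨a, ha, hb, n, hn⟩ := exists_dec (ρ := σ) hp hp3 hy v
    have h3 : v - a ∈ tk σ xA := by
      refine (tk σ xA).sub_mem hv ?_
      rw [hn]
      refine (tk σ xA).nsmul_mem ?_ n
      have hyv : ∀ w ∈ tk σ xA, σ yA w ∈ tk σ xA := by
        intro w hw
        rw [mem_tk, exy, exy, ← map_add, ← map_add, mem_tk.1 hw, map_zero]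
      exact (tk σ xA).add_mem ((tk σ xA).add_mem hv (hyv _ hv)) (hyv _ (hyv _ hv))
    rw [sub_eq_zero.1 (h1 _ h3 hb)]
    exact ha
  have h2' : tk σ yA ≤ fx σ xA := by
    intro v hv
    obtain ⟨a, ha, hb, n, hn⟩ := exists_dec (ρ := σ) hp hp3 hx v
    have h3 : v - a ∈ tk σ yA := by
      refine (tk σ yA).sub_mem hv ?_
      rw [hn]
      refine (tk σ yA).nsmul_mem ?_ n
      have hyv : ∀ w ∈ tk σ yA, σ xA w ∈ tk σ yA := by
        intro w hw
        rw [mem_tk, ← exy, ← exy, ← map_add, ← map_add, mem_tk.1 hw, map_zero]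
      exact (tk σ yA).add_mem ((tk σ yA).add_mem hv (hyv _ hv)) (hyv _ (hyv _ hv))
    rw [sub_eq_zero.1 (h1 _ hb h3)]
    exact ha
  -- fixed points of `xy`
  have h3 : fx σ (xA * yA) = fx σ xA ⊓ fx σ yA := by
    apply le_antisymm
    · intro v hv
      rw [mem_fx, ap_mul] at hv
      obtain ⟨a, ha, hb, n, hn⟩ := exists_dec (ρ := σ) hp hp3 hx v
      have h4 : σ xA (σ yA a) = a := by
        have hyx : ∀ w, σ xA (σ yA w) = w → σ xA (σ yA (σ xA w)) = σ xA w := by
          intro w hw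
          rw [← exy, hw]
        have hf : a ∈ fx σ (xA * yA) := by
          rw [hn]
          refine (fx σ (xA * yA)).nsmul_mem ?_ n
          have g1 : v ∈ fx σ (xA * yA) := by rw [mem_fx, ap_mul]; exact hv
          have g2 : σ xA v ∈ fx σ (xA * yA) := by rw [mem_fx, ap_mul]; exact hyx v hv
          have g3 : σ xA (σ xA v) ∈ fx σ (xA * yA) := by rw [mem_fx, ap_mul]; exact hyx _ (hyx v hv)
          exact (fx σ (xA * yA)).add_mem ((fx σ (xA * yA)).add_mem g1 g2) g3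
        rw [mem_fx, ap_mul] at hf
        exact hf
      have h5 : σ xA (σ yA (v - a)) = v - a := by rw [map_sub, map_sub, hv, h4]
      have h6 : σ yA (v - a) = v - a := h2 hb
      rw [h6] at h5
      have h7 : v - a = 0 := eq_zero_of_mem hp hp3 (mem_fx.2 h5) hb
      rw [sub_eq_zero.1 h7]
      refine ⟨ha, ?_⟩
      change σ yA a = a
      rw [exy, mem_fx.1 ha] at h4
      exact h4
    · rintro v ⟨hv1, hv2⟩
      change σ (xA * yA) v = v
      rw [ap_mul, mem_fx.1 hv2, mem_fx.1 hv1]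
  have h4 : Nat.card (tk σ xA) = Nat.card (tk σ yA) := by
    refine card_tk_conj mA xA yA ?_
    exact ASeven.ym.symm
  have h5 : Nat.card V = Nat.card (fx σ xA) * Nat.card (tk σ xA) := by
    have := card_eq (ρ := σ) hp hp3 hx ⊤ (fun _ _ => AddSubgroup.mem_top _)
    rw [top_inf_eq, top_inf_eq, AddSubgroup.card_top] at this
    exact this
  have h6 : Nat.card (fx σ xA) = Nat.card (fx σ (xA * yA)) * Nat.card (tk σ yA) := by
    have := card_eq (ρ := σ) hp hp3 hy (fx σ xA) (fun v hv => by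
      rw [mem_fx, exy, mem_fx.1 hv])
    rw [← h3, inf_eq_right.2 h2'] at this
    exact this
  have h7 : Nat.card V = Nat.card (fx σ (xA * yA)) * Nat.card (tk σ xA) ^ 2 := by
    rw [h5, h6, ← h4, pow_two, mul_assoc]
  refine ⟨h2, h7, ?_⟩
  have h8 : Nat.card (fx σ (xA * yA)) ^ 3 ≤ Nat.card V := by
    rw [card_fx_conj kA (xA * yA) m3A k_conj]
    exact card_cube_le ASeven.c_seven m3_conj ‹_›
  rw [h7] at h8
  have hpos : 0 < Nat.card (fx σ (xA * yA)) := Nat.card_pos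
  have h9 : Nat.card (fx σ (xA * yA)) ^ 2 ≤ Nat.card (tk σ xA) ^ 2 := by
    apply Nat.le_of_mul_le_mul_left _ hpos
    calc Nat.card (fx σ (xA * yA)) * Nat.card (fx σ (xA * yA)) ^ 2 = Nat.card (fx σ (xA * yA)) ^ 3 := by ring
      _ ≤ _ := h8
  exact (Nat.pow_le_pow_iff_left two_ne_zero).1 h9

end

theorem order_c : orderOf cA = 7 := by
  have : Fact (Nat.Prime 7) := ⟨by norm_num⟩
  refine orderOf_eq_prime ASeven.c_seven ?_
  intro h
  have := congrArg ASeven.code h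
  rw [ASeven.code_c, ASeven.code_one] at this
  exact absurd this (by decide)

theorem phi_inj {φ : A7 →* U4} (h : φ xA = pr gx) : Function.Injective φ := by
  have hs : IsSimpleGroup A7 :=
    alternatingGroup.isSimpleGroup (by rw [Nat.card_eq_fintype_card, Fintype.card_fin]; norm_num)
  rw [← MonoidHom.ker_eq_bot_iff]
  rcases hs.eq_bot_or_eq_top_of_normal φ.ker inferInstance with h1 | h1
  · exact h1
  · exfalso
    apply x_ne
    rw [← h]
    have : xA ∈ φ.ker := by rw [h1]; exact Subgroup.mem_top _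
    exact this

section

variable {V : Type*} [AddCommGroup V]

theorem fx_conj_iff {L : Type*} [Group L] {τ : L →* AddMonoid.End V} {g s S : L} (h : g * s = S * g) (v : V) :
    v ∈ fx τ S ↔ τ g⁻¹ v ∈ fx τ s := by
  have h1 : s * g⁻¹ = g⁻¹ * S := by
    rw [eq_inv_mul_iff_mul_eq, ← mul_assoc, h, mul_inv_cancel_right]
  rw [mem_fx, mem_fx, ← ap_mul, h1, ap_mul]
  constructor
  · intro hv; rw [hv]
  · intro hv
    have := congrArg (τ g) hv
    rwa [ap_inv, ap_inv] at this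

theorem tk_comm {L : Type*} [Group L] {τ : L →* AddMonoid.End V} {g x : L} (h : g * x = x * g) {v : V}
    (hv : v ∈ tk τ x) : τ g v ∈ tk τ x := by
  have e : ∀ w, τ x (τ g w) = τ g (τ x w) := fun w => by rw [← ap_mul, ← h, ap_mul]
  rw [mem_tk, e, e, ← map_add, ← map_add, mem_tk.1 hv, map_zero]

/-- **Characteristic 2.** -/
theorem main [Finite V] (ρ : U4 →* AddMonoid.End V) (h2 : ∀ v : V, 2 • v = 0)
    (h7 : ∀ g : U4, orderOf g = 7 → ∀ v, ρ g v = v → v = 0) (v : V) : v = 0 := by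
  obtain ⟨φ, hφx, hφy⟩ := exists_phi
  have hφi := phi_inj hφx
  set σ : A7 →* AddMonoid.End V := ρ.comp φ with hσ
  set τ : SU4 →* AddMonoid.End V := ρ.comp pr with hτ
  have hx : σ xA = τ gx := by rw [hσ, hτ, MonoidHom.comp_apply, MonoidHom.comp_apply, hφx]
  have hy : σ yA = τ gy := by rw [hσ, hτ, MonoidHom.comp_apply, MonoidHom.comp_apply, hφy]
  have hc : ∀ v : V, σ cA v = v → v = 0 := by
    apply h7
    rw [orderOf_injective φ hφi, order_c]
  obtain ⟨s1, s2, s3⟩ := seven (Or.inl rfl) h2 hc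
  have e1 : tk σ xA = tk τ gx := by
    ext w; rw [mem_tk, mem_tk, hx]
  have e2 : fx σ yA = fx τ gy := by
    ext w; rw [mem_fx, mem_fx, hy]
  have e3 : fx σ (xA * yA) = fx τ (gx * gy) := by
    ext w; rw [mem_fx, mem_fx, map_mul, map_mul, hx, hy]
  rw [e1, e2] at s1
  rw [e1, e3] at s2 s3
  set W := tk τ gx with hW
  -- `W` is invariant under the elements commuting with `x`
  have hinv : ∀ g : SU4, g * gx = gx * g → ∀ w ∈ W, τ g w ∈ W := fun g hg w hw => tk_comm hg hw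
  have hinv' : ∀ g : SU4, g * gx = gx * g → ∀ w ∈ W, τ g⁻¹ w ∈ W := by
    intro g hg w hw
    refine hinv g⁻¹ ?_ w hw
    rw [inv_mul_eq_iff_eq_mul, ← mul_assoc, hg, mul_inv_cancel_right]
  have hfix_inv : ∀ (g : SU4) (w : V), τ g w = w → τ g⁻¹ w = w := by
    intro g w hw
    have := inv_ap (ρ := τ) g w
    rwa [hw] at this
  -- `s` is trivial on `W`
  have hs : W ≤ fx τ gs := by
    intro w hw
    have h3 := hinv' gj jx w hw
    have h4 : τ gy (τ gj⁻¹ w) = τ gj⁻¹ w := s1 h3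
    have h5 : τ (gj * gy) (τ gj⁻¹ w) = w := by rw [ap_mul, h4, ap_inv]
    rw [js, ap_mul, ap_mul, ap_inv] at h5
    have h6 := congrArg (τ gy⁻¹) h5
    rw [inv_ap, hfix_inv gy w (s1 hw)] at h6
    exact h6
  have hs' : W = fx τ gs := by
    apply AddSubgroup.eq_of_le_of_card_ge hs
    rw [← card_fx_conj gw (gx * gy) gs w_conj]
    exact s3
  -- conjugates of `s` in the block
  have hS : ∀ G S : SU4, G * gx = gx * G → G * gs = S * G → ∀ w, w ∈ fx τ S ↔ w ∈ W := by
    intro G S h3 h4 w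
    rw [fx_conj_iff h4, ← hs']
    constructor
    · intro h5
      have := hinv G h3 _ h5
      rwa [ap_inv] at this
    · exact hinv' G h3 w
  have hcube : ∀ G S : SU4, G * gs = S * G → S ^ 3 = 1 := by
    intro G S h4
    have h5 : S = G * gs * G⁻¹ := by rw [h4, mul_inv_cancel_right]
    rw [h5, conj_pow, s_cube, mul_one, mul_inv_cancel]
  have htr : ∀ G S : SU4, G * gx = gx * G → G * gs = S * G → ∀ w, w + τ S w + τ S (τ S w) ∈ W := by
    intro G S h3 h4 w
    exact (hS G S h3 h4 _).1 (tr_mem (hcube G S h4) w)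
  -- fixed points of `r`
  have hr1 : ∀ w, τ gr w = w → w ∈ W := by
    intro w hw
    have w1 := htr gG1 gS1 G1x G1s w
    have w2 := htr gG2 gS2 G2x G2s (τ gS1 w)
    have w3 := htr gG3 gS3 G3x G3s (τ gS1 (τ gS1 w))
    have w4 := htr gG4 gS4 G4x G4s (τ gS2 (τ gS1 w))
    have w5 := htr gG5 gS5 G5x G5s (τ gS4 (τ gS2 (τ gS1 w)))
    have hr3 : τ gr3 w = w := by rw [r3_eq, ap_mul, ap_mul, hw, hw, hw]
    have i1 : τ gS4 (τ gS4 (τ gS2 (τ gS1 w))) = τ gS3 (τ gS1 (τ gS1 w)) := by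
      have := congrArg (fun g => τ g w) I1
      simp only [ap_mul] at this
      rw [hw] at this
      exact this
    have i2 : τ gS5 (τ gS4 (τ gS2 (τ gS1 w))) = τ gS3 (τ gS3 (τ gS1 (τ gS1 w))) := by
      have := congrArg (fun g => τ g w) I2
      simp only [ap_mul] at this
      exact this
    have i3 : τ gS5 (τ gS5 (τ gS4 (τ gS2 (τ gS1 w)))) = τ gS2 (τ gS2 (τ gS1 w)) := by
      have := congrArg (fun g => τ g w) I3
      simp only [ap_mul] at this
      rw [hr3] at this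
      exact this
    rw [i3, i2] at w5
    rw [i1] at w4
    have h3 := W.add_mem (W.add_mem (W.add_mem (W.add_mem w1 w2) w3) w4) w5
    have hd : ∀ t : V, t + t = 0 := by
      intro t
      have := h2 t
      rwa [show (2 : ℕ) = 1 + 1 from rfl, add_smul, one_smul] at this
    have h4 : w + τ gS1 w + τ gS1 (τ gS1 w) +
        (τ gS1 w + τ gS2 (τ gS1 w) + τ gS2 (τ gS2 (τ gS1 w))) +
        (τ gS1 (τ gS1 w) + τ gS3 (τ gS1 (τ gS1 w)) + τ gS3 (τ gS3 (τ gS1 (τ gS1 w)))) +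
        (τ gS2 (τ gS1 w) + τ gS4 (τ gS2 (τ gS1 w)) + τ gS3 (τ gS1 (τ gS1 w))) +
        (τ gS4 (τ gS2 (τ gS1 w)) + τ gS3 (τ gS3 (τ gS1 (τ gS1 w))) + τ gS2 (τ gS2 (τ gS1 w))) =
        w + (τ gS1 w + τ gS1 w) + (τ gS1 (τ gS1 w) + τ gS1 (τ gS1 w)) + (τ gS2 (τ gS1 w) + τ gS2 (τ gS1 w)) +
        (τ gS2 (τ gS2 (τ gS1 w)) + τ gS2 (τ gS2 (τ gS1 w))) +
        (τ gS3 (τ gS1 (τ gS1 w)) + τ gS3 (τ gS1 (τ gS1 w))) +
        (τ gS3 (τ gS3 (τ gS1 (τ gS1 w))) + τ gS3 (τ gS3 (τ gS1 (τ gS1 w)))) +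
        (τ gS4 (τ gS2 (τ gS1 w)) + τ gS4 (τ gS2 (τ gS1 w))) := by abel
    rw [h4] at h3
    simp only [hd, add_zero] at h3
    exact h3
  have hr2 : ∀ w ∈ W, τ gr w = w := by
    intro w hw
    have h3 := congrArg (fun g => τ g w) r_eq
    simp only [ap_mul] at h3
    have t1 : τ gS1 w = w := (hS gG1 gS1 G1x G1s w).2 hw
    have t3 : τ gS3 w = w := (hS gG3 gS3 G3x G3s w).2 hw
    have t5 : τ gS5 w = w := (hS gG5 gS5 G5x G5s w).2 hw
    rw [t5, t1] at h3
    have h4 := congrArg (τ gS3⁻¹) h3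
    rw [inv_ap, hfix_inv _ _ t3] at h4
    exact h4
  -- `W = 0`
  have hW0 : ∀ w ∈ W, w = 0 := by
    intro w hw
    have h3 : τ gg⁻¹ w ∈ W := by
      apply hr1
      have h4 : gr * gg⁻¹ = gg⁻¹ * gr := by
        rw [eq_inv_mul_iff_mul_eq, ← mul_assoc, gr_comm, mul_inv_cancel_right]
      rw [← ap_mul, h4, ap_mul, hr2 w hw]
    have h5 : τ gs (τ gg⁻¹ w) = τ gg⁻¹ w := hs h3
    have h6 := congrArg (fun g => τ g (τ gg⁻¹ w)) u_eq
    simp only [ap_mul] at h6
    have h7' : τ gs w = w := hs hw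
    rw [h5, ap_inv, h7'] at h6
    exact h7 _ order_u w h6
  have hWcard : Nat.card W = 1 := by
    have : W = ⊥ := (AddSubgroup.eq_bot_iff_forall W).2 hW0
    rw [this]
    exact AddSubgroup.card_bot
  rw [hWcard] at s2 s3
  have hV : Nat.card V ≤ 1 := by rw [s2, one_pow, mul_one]; exact s3
  have hsub : Subsingleton V := (Nat.card_eq_one_iff_unique.1 (le_antisymm hV Nat.card_pos)).1
  exact Subsingleton.elim _ _

end

end Cfsg.Agent.H413.U45.KerTwo
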