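import Mathlib

/-!
# Modules for `A₇` on which the 7-cycles act fixed-point-freely (helper413)

`main` : if `A₇` acts on an abelian group `V` of exponent 2 or 5 and the 7-cycles have no nonzero fixed vector then
`[V, x] ∩ [V, x'] = 0` for disjoint 3-cycles `x`, `x'`.

Proof: otherwise there is a vector `v ≠ 0` with `v + xv + x²v = 0`, `x'v = xv`, `nv = v` for `n = (0 1)(3 4)`; explicit
combinations of the sums `∑ g c^j h v` (which are zero) are `v`.
-/

set_option autoImplicit false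
set_option maxRecDepth 1000000

namespace Cfsg.Agent.H413.U45.ASeven

/-- the group -/
abbrev A7 := alternatingGroup (Fin 7)

/-- entry of a list -/
def nth : List ℕ → ℕ → ℕ
  | [], _ => 0
  | a :: _, 0 => a
  | _ :: l, n + 1 => nth l n

/-- the 7-cycle -/
def cL : List ℕ := [1, 2, 3, 4, 5, 6, 0]
/-- the first 3-cycle -/
def xL : List ℕ := [1, 2, 0, 3, 4, 5, 6]
/-- the second 3-cycle -/
def yL : List ℕ := [0, 1, 2, 4, 5, 3, 6]
/-- the involution -/
def nL : List ℕ := [1, 0, 2, 4, 3, 5, 6]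
/-- the identity -/
def iL : List ℕ := [0, 1, 2, 3, 4, 5, 6]

/-- permutation from a pair of inverse lists -/
def perm (l m : List ℕ) (h : (∀ i : Fin 7, nth m (nth l i % 7) % 7 = i.val) ∧
    ∀ i : Fin 7, nth l (nth m i % 7) % 7 = i.val) : Equiv.Perm (Fin 7) where
  toFun i := ⟨nth l i % 7, Nat.mod_lt _ (by norm_num)⟩
  invFun i := ⟨nth m i % 7, Nat.mod_lt _ (by norm_num)⟩
  left_inv i := Fin.ext (h.1 i)
  right_inv i := Fin.ext (h.2 i)

/-- the 7-cycle -/
def cA : A7 := ⟨perm cL [6, 0, 1, 2, 3, 4, 5] (by decide), Equiv.Perm.mem_alternatingGroup.2 (by decide +kernel)⟩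
/-- the first 3-cycle -/
def xA : A7 := ⟨perm xL [2, 0, 1, 3, 4, 5, 6] (by decide), Equiv.Perm.mem_alternatingGroup.2 (by decide +kernel)⟩
/-- the second 3-cycle -/
def yA : A7 := ⟨perm yL [0, 1, 2, 5, 3, 4, 6] (by decide), Equiv.Perm.mem_alternatingGroup.2 (by decide +kernel)⟩
/-- the involution -/
def nA : A7 := ⟨perm nL nL (by decide), Equiv.Perm.mem_alternatingGroup.2 (by decide +kernel)⟩

/-- the code of an element -/
def code (σ : A7) : List ℕ := (List.finRange 7).map fun i => (σ.1 i).val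

/-- product of codes -/
def mulL (l m : List ℕ) : List ℕ := m.map (nth l)

theorem nth_code (σ : A7) (i : Fin 7) : nth (code σ) i = (σ.1 i).val := by
  have : code σ = [(σ.1 0).val, (σ.1 1).val, (σ.1 2).val, (σ.1 3).val, (σ.1 4).val, (σ.1 5).val, (σ.1 6).val] := rfl
  rw [this]
  fin_cases i <;> rfl

theorem code_mul (σ τ : A7) : code (σ * τ) = mulL (code σ) (code τ) := by
  have h : mulL (code σ) (code τ) = ((List.finRange 7).map fun i => (τ.1 i).val).map (nth (code σ)) := rfl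
  rw [h, List.map_map]
  apply List.map_congr_left
  intro i _
  exact (nth_code σ (τ.1 i)).symm

theorem code_inj {σ τ : A7} (h : code σ = code τ) : σ = τ := by
  apply Subtype.ext
  apply Equiv.ext
  intro i
  apply Fin.ext
  rw [← nth_code, h, nth_code]

theorem code_c : code cA = cL := by decide +kernel
theorem code_x : code xA = xL := by decide +kernel
theorem code_y : code yA = yL := by decide +kernel
theorem code_n : code nA = nL := by decide +kernel
theorem code_one : code 1 = iL := by decide +kernel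

/-- number of a list -/
def enc : List ℕ → ℕ
  | [] => 0
  | a :: l => a + 8 * enc l

theorem enc_inj : ∀ {l m : List ℕ}, l.length = m.length → (∀ a ∈ l, a < 8) → (∀ a ∈ m, a < 8) → enc l = enc m → l = m
  | [], [], _, _, _, _ => rfl
  | [], _ :: _, h, _, _, _ => by simp at h
  | _ :: _, [], h, _, _, _ => by simp at h
  | a :: l, b :: m, h, hl, hm, he => by
    have ha := hl a List.mem_cons_self
    have hb := hm b List.mem_cons_self
    change a + 8 * enc l = b + 8 * enc m at he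
    have h1 : a = b := by omega
    have h2 : enc l = enc m := by omega
    rw [h1, enc_inj (by simpa using h) (fun c hc => hl c (List.mem_cons_of_mem _ hc))
      (fun c hc => hm c (List.mem_cons_of_mem _ hc)) h2]

theorem length_code (σ : A7) : (code σ).length = 7 := by simp [code]

theorem code_lt (σ : A7) : ∀ a ∈ code σ, a < 8 := by
  intro a ha
  obtain ⟨i, -, rfl⟩ := List.mem_map.1 ha
  have := (σ.1 i).isLt
  omega

theorem enc_code_inj {σ τ : A7} (h : enc (code σ) = enc (code τ)) : σ = τ :=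
  code_inj (enc_inj (by rw [length_code, length_code]) (code_lt σ) (code_lt τ) h)

open Classical in
/-- the element with a given number -/
noncomputable def elt (e : ℕ) : A7 := if h : ∃ σ : A7, enc (code σ) = e then h.choose else 1

theorem elt_enc (σ : A7) : elt (enc (code σ)) = σ := by
  have h : ∃ τ : A7, enc (code τ) = enc (code σ) := ⟨σ, rfl⟩
  unfold elt
  rw [dif_pos h]
  exact enc_code_inj h.choose_spec

/-! ### words -/

/-- word from its code -/
def bits : ℕ → ℕ → List Bool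
  | 0, _ => []
  | f + 1, n => bif Nat.ble n 1 then [] else Nat.beq (n % 2) 1 :: bits f (n / 2)

/-- generators -/
def gen (b : Bool) : A7 := bif b then xA else cA

/-- code of a word -/
def wordL (w : List Bool) : List ℕ := w.foldr (fun b l => mulL (bif b then xL else cL) l) iL

/-- element of a word -/
def wordA (w : List Bool) : A7 := w.foldr (fun b l => gen b * l) 1

theorem code_word (w : List Bool) : code (wordA w) = wordL w := by
  induction w with
  | nil => exact code_one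
  | cons b w ih =>
    change code (gen b * wordA w) = mulL (bif b then xL else cL) (wordL w)
    rw [code_mul, ih]
    cases b
    · exact congrArg (fun l => mulL l _) code_c
    · exact congrArg (fun l => mulL l _) code_x

/-- rotation needed -/
def rot (a b c : ℕ) : ℕ := bif Nat.ble a b && Nat.ble a c then 0 else bif Nat.ble b c then 1 else 2

/-- orientation -/
def ori (a b c : ℕ) : Bool := (Nat.ble b a ^^ Nat.ble c a) ^^ Nat.ble c b

/-- code of a power of `x` -/
def xpL (i : ℕ) : List ℕ := bif Nat.beq i 0 then iL else bif Nat.beq i 1 then xL else [2, 0, 1, 3, 4, 5, 6]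
/-- code of a power of `y` -/
def ypL (i : ℕ) : List ℕ := bif Nat.beq i 0 then iL else bif Nat.beq i 1 then yL else [0, 1, 2, 5, 3, 4, 6]

theorem code_xp : ∀ i < 3, code (xA ^ i) = xpL i := by decide +kernel
theorem code_yp : ∀ i < 3, code (yA ^ i) = ypL i := by decide +kernel

theorem rot_lt (a b c : ℕ) : rot a b c < 3 := by
  unfold rot
  cases (Nat.ble a b && Nat.ble a c) <;> cases Nat.ble b c <;> simp

/-- normal form -/
def nf (l : List ℕ) : ℕ × ℕ :=
  let l1 := bif ori (nth l 0) (nth l 1) (nth l 2) then mulL l nL else l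
  let i := rot (nth l1 0) (nth l1 1) (nth l1 2)
  let j := rot (nth l1 3) (nth l1 4) (nth l1 5)
  (enc (mulL (mulL l1 (xpL i)) (ypL j)), 2 * (i + j) % 3)

section

variable {V : Type*} [AddCommGroup V]

theorem mul_ap (f g : AddMonoid.End V) (u : V) : (f * g) u = f (g u) := rfl

variable (ρ : A7 →* AddMonoid.End V)

/-- special vectors -/
structure Spec (v : V) : Prop where
  s : v + ρ xA v + ρ xA (ρ xA v) = 0
  y : ρ yA v = ρ xA v
  n : ρ nA v = v

variable {ρ}

theorem x_cube : xA ^ 3 = 1 := code_inj (by decide +kernel)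
theorem y_cube : yA ^ 3 = 1 := code_inj (by decide +kernel)
theorem xy_comm : xA * yA = yA * xA := code_inj (by decide +kernel)
theorem nn : nA * nA = 1 := code_inj (by decide +kernel)
theorem nx : nA * xA = xA * xA * nA := code_inj (by decide +kernel)
theorem ny : nA * yA = yA * yA * nA := code_inj (by decide +kernel)

theorem Spec.y_pow {v : V} (h : Spec ρ v) (j : ℕ) : ρ (yA ^ j) v = ρ (xA ^ j) v := by
  induction j with
  | zero => rw [pow_zero, pow_zero]
  | succ j ih =>
    have h1 : yA ^ (j + 1) = yA * yA ^ j := pow_succ' _ _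
    have h2 : yA * xA ^ j = xA ^ j * yA := ((show Commute xA yA from xy_comm).pow_left j).symm
    rw [h1, map_mul, mul_ap, ih, ← mul_ap, ← map_mul, h2, map_mul, mul_ap, h.y, ← mul_ap, ← map_mul, ← pow_succ]

theorem x_mod {k l : ℕ} (h : k % 3 = l % 3) : xA ^ k = xA ^ l := by
  rw [← Nat.div_add_mod k 3, ← Nat.div_add_mod l 3, h, pow_add, pow_add, pow_mul, pow_mul, x_cube, one_pow, one_pow]

/-- the value of a term -/
noncomputable def val (ρ : A7 →* AddMonoid.End V) (v : V) (t : ℕ × ℕ) : V := ρ (elt t.1) (ρ (xA ^ t.2) v)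

theorem nf_spec {v : V} (h : Spec ρ v) (σ : A7) : val ρ v (nf (code σ)) = ρ σ v := by
  set l := code σ with hl
  -- the first step
  obtain ⟨τ, hτ, hτv⟩ : ∃ τ : A7, code τ = (bif ori (nth l 0) (nth l 1) (nth l 2) then mulL l nL else l) ∧
      ρ τ v = ρ σ v := by
    cases ori (nth l 0) (nth l 1) (nth l 2)
    · exact ⟨σ, rfl, rfl⟩
    · refine ⟨σ * nA, ?_, ?_⟩
      · rw [code_mul, code_n]; rfl
      · rw [map_mul, mul_ap, h.n]
  set l1 := (bif ori (nth l 0) (nth l 1) (nth l 2) then mulL l nL else l) with hl1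
  set i := rot (nth l1 0) (nth l1 1) (nth l1 2) with hi
  set j := rot (nth l1 3) (nth l1 4) (nth l1 5) with hj
  have h3 : nf l = (enc (mulL (mulL l1 (xpL i)) (ypL j)), 2 * (i + j) % 3) := rfl
  have h4 : mulL (mulL l1 (xpL i)) (ypL j) = code (τ * xA ^ i * yA ^ j) := by
    rw [code_mul, code_mul, code_xp i (rot_lt _ _ _), code_yp j (rot_lt _ _ _), hτ]
  rw [h3, h4]
  unfold val
  rw [elt_enc]
  set k := 2 * (i + j) % 3 with hk
  have h5 : xA ^ (i + (k + j)) = xA ^ 0 := x_mod (by omega)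
  have h6 : yA ^ j * xA ^ k = xA ^ k * yA ^ j := ((show Commute xA yA from xy_comm).pow_pow k j).symm.eq
  calc ρ (τ * xA ^ i * yA ^ j) (ρ (xA ^ k) v) = ρ (τ * xA ^ i * (yA ^ j * xA ^ k)) v := by
        rw [← mul_ap, ← map_mul, mul_assoc (τ * xA ^ i)]
    _ = ρ (τ * xA ^ i * xA ^ k) (ρ (yA ^ j) v) := by rw [h6, ← mul_assoc, map_mul, mul_ap]
    _ = ρ (τ * xA ^ (i + (k + j))) v := by
        rw [h.y_pow, ← mul_ap, ← map_mul, pow_add, pow_add, mul_assoc, mul_assoc]
    _ = ρ σ v := by rw [h5, pow_zero, mul_one, hτv]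

/-- the terms of one relation -/
def rterms (c : ℕ × ℕ × ℕ) : List (ℕ × ℕ) :=
  let g := wordL (bits 20 c.2.1)
  let h := wordL (bits 20 c.2.2)
  (List.range 7).map fun j => nf (mulL g (h.map fun i => (i + j) % 7))

theorem code_c_pow : ∀ j < 7, ∀ i < 7, nth (code (cA ^ j)) i = (i + j) % 7 := by decide +kernel

theorem mulL_c {j : ℕ} (hj : j < 7) (σ : A7) : (code σ).map (fun i => (i + j) % 7) = code (cA ^ j * σ) := by
  rw [code_mul]
  unfold mulL
  apply List.map_congr_left
  intro a ha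
  obtain ⟨i, -, rfl⟩ := List.mem_map.1 ha
  exact (code_c_pow j hj _ (σ.1 i).isLt).symm

theorem c_seven : cA ^ 7 = 1 := code_inj (by decide +kernel)

theorem sum_orbit (h7 : ∀ v : V, ρ cA v = v → v = 0) (u : V) : ((List.range 7).map fun i => ρ (cA ^ i) u).sum = 0 := by
  apply h7
  have h1 : ρ (cA ^ 7) u = u := by rw [c_seven, map_one]; rfl
  rw [map_list_sum]
  simp only [List.range_succ, List.range_zero, List.nil_append, List.cons_append, List.map_cons, List.map_nil,
    List.sum_cons, List.sum_nil]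
  simp only [← mul_ap, ← map_mul, ← pow_succ']
  norm_num only at *
  rw [h1]
  simp only [pow_zero, map_one, AddMonoid.End.one_apply]
  abel

theorem rterms_sum (h7 : ∀ v : V, ρ cA v = v → v = 0) {v : V} (hv : Spec ρ v) (c : ℕ × ℕ × ℕ) :
    ((rterms c).map (val ρ v)).sum = 0 := by
  have h1 : (rterms c).map (val ρ v) =
      ((List.range 7).map fun j => ρ (cA ^ j) (ρ (wordA (bits 20 c.2.2)) v)).map (ρ (wordA (bits 20 c.2.1))) := by
    unfold rterms
    rw [List.map_map, List.map_map]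
    apply List.map_congr_left
    intro j hj
    simp only [Function.comp]
    rw [← code_word, ← code_word, mulL_c (List.mem_range.1 hj), ← code_mul, nf_spec hv, map_mul, map_mul]
    rfl
  rw [h1, ← map_list_sum, sum_orbit h7, map_zero]

/-- accumulated coefficients -/
abbrev Acc := List (ℕ × ℕ × ℕ × ℕ)

/-- insertion -/
def ins (a k i : ℕ) : Acc → Acc
  | [] => [(k, bif Nat.beq i 0 then a else 0, bif Nat.beq i 1 then a else 0, bif Nat.beq i 2 then a else 0)]
  | (k', x, y, z) :: l =>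
    bif Nat.beq k k' then
      (bif Nat.beq i 0 then (k', x + a, y, z) :: l else bif Nat.beq i 1 then (k', x, y + a, z) :: l
        else (k', x, y, z + a) :: l)
    else (k', x, y, z) :: ins a k i l

/-- value -/
noncomputable def ev (ρ : A7 →* AddMonoid.End V) (v : V) (t : ℕ × ℕ × ℕ × ℕ) : V :=
  t.2.1 • val ρ v (t.1, 0) + t.2.2.1 • val ρ v (t.1, 1) + t.2.2.2 • val ρ v (t.1, 2)

theorem ins_spec (v : V) (a k : ℕ) {i : ℕ} (hi : i < 3) (l : Acc) :
    ((ins a k i l).map (ev ρ v)).sum = a • val ρ v (k, i) + (l.map (ev ρ v)).sum := by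
  induction l with
  | nil =>
    interval_cases i
    · change ((a • val ρ v (k, 0) + 0 • val ρ v (k, 1) + 0 • val ρ v (k, 2)) + 0 : V) = _ + 0
      rw [zero_smul, zero_smul, add_zero, add_zero]
    · change ((0 • val ρ v (k, 0) + a • val ρ v (k, 1) + 0 • val ρ v (k, 2)) + 0 : V) = _ + 0
      rw [zero_smul, zero_smul, zero_add, add_zero]
    · change ((0 • val ρ v (k, 0) + 0 • val ρ v (k, 1) + a • val ρ v (k, 2)) + 0 : V) = _ + 0
      rw [zero_smul, zero_smul, zero_add, zero_add]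
  | cons p l ih =>
    obtain ⟨k', x, y, z⟩ := p
    unfold ins
    cases hk : Nat.beq k k' with
    | false =>
      rw [cond_false, List.map_cons, List.sum_cons, ih, List.map_cons, List.sum_cons]
      abel
    | true =>
      have hk' : k = k' := Nat.eq_of_beq_eq_true hk
      subst hk'
      rw [cond_true, List.map_cons, List.sum_cons]
      interval_cases i
      · change (((x + a) • val ρ v (k, 0) + y • val ρ v (k, 1) + z • val ρ v (k, 2)) + (l.map (ev ρ v)).sum : V) = _
        rw [add_smul]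
        change _ = _ + ((x • val ρ v (k, 0) + y • val ρ v (k, 1) + z • val ρ v (k, 2)) + _)
        abel
      · change ((x • val ρ v (k, 0) + (y + a) • val ρ v (k, 1) + z • val ρ v (k, 2)) + (l.map (ev ρ v)).sum : V) = _
        rw [add_smul]
        change _ = _ + ((x • val ρ v (k, 0) + y • val ρ v (k, 1) + z • val ρ v (k, 2)) + _)
        abel
      · change ((x • val ρ v (k, 0) + y • val ρ v (k, 1) + (z + a) • val ρ v (k, 2)) + (l.map (ev ρ v)).sum : V) = _
        rw [add_smul]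
        change _ = _ + ((x • val ρ v (k, 0) + y • val ρ v (k, 1) + z • val ρ v (k, 2)) + _)
        abel

/-- accumulation of the terms of a relation -/
def addR (a : ℕ) (l : List (ℕ × ℕ)) (acc : Acc) : Acc := l.foldr (fun t s => ins a t.1 t.2 s) acc

theorem addR_spec (v : V) (a : ℕ) (l : List (ℕ × ℕ)) (hl : ∀ t ∈ l, t.2 < 3) (acc : Acc) :
    ((addR a l acc).map (ev ρ v)).sum = a • (l.map (val ρ v)).sum + (acc.map (ev ρ v)).sum := by
  induction l with
  | nil => rw [List.map_nil, List.sum_nil, smul_zero, zero_add]; rfl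
  | cons t l ih =>
    have h1 : addR a (t :: l) acc = ins a t.1 t.2 (addR a l acc) := rfl
    rw [h1, ins_spec v a t.1 (hl t List.mem_cons_self), ih fun s hs => hl s (List.mem_cons_of_mem _ hs),
      List.map_cons, List.sum_cons, smul_add, add_assoc]

/-- total -/
def total (p : ℕ) (L : List (ℕ × ℕ × ℕ)) : Acc :=
  L.foldr (fun c s => addR c.1 (rterms c) s) [(enc iL, p - 1, 0, 0)]

theorem rterms_lt (c : ℕ × ℕ × ℕ) : ∀ t ∈ rterms c, t.2 < 3 := by
  intro t ht
  obtain ⟨j, -, rfl⟩ := List.mem_map.1 ht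
  exact Nat.mod_lt _ (by norm_num)

theorem total_spec (h7 : ∀ v : V, ρ cA v = v → v = 0) {v : V} (hv : Spec ρ v) (p : ℕ) (L : List (ℕ × ℕ × ℕ)) :
    ((total p L).map (ev ρ v)).sum = (p - 1) • v := by
  induction L with
  | nil =>
    change ((p - 1) • val ρ v (enc iL, 0) + 0 • val ρ v (enc iL, 1) + 0 • val ρ v (enc iL, 2)) + 0 = (p - 1) • v
    have h1 : val ρ v (enc iL, 0) = v := by
      unfold val
      have h2 : elt (enc iL) = 1 := by rw [← code_one, elt_enc]
      simp only [h2, pow_zero, map_one]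
      rfl
    rw [h1, zero_smul, zero_smul, add_zero, add_zero, add_zero]
  | cons c L ih =>
    have h1 : total p (c :: L) = addR c.1 (rterms c) (total p L) := rfl
    rw [h1, addR_spec v _ _ (rterms_lt c), ih, rterms_sum h7 hv, smul_zero, zero_add]

/-- the check -/
def ok (p : ℕ) (L : List (ℕ × ℕ × ℕ)) : Bool :=
  (total p L).all fun t => Nat.beq (t.2.1 % p) (t.2.2.1 % p) && Nat.beq (t.2.2.1 % p) (t.2.2.2 % p)

theorem smul_mod {p : ℕ} (hp : ∀ v : V, p • v = 0) (a : ℕ) (w : V) : a • w = (a % p) • w := by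
  conv_lhs => rw [← Nat.div_add_mod a p]
  rw [add_smul, mul_smul, hp, zero_add]

theorem eq_zero_of_ok {p : ℕ} (hp0 : 0 < p) (hp : ∀ v : V, p • v = 0) (h7 : ∀ v : V, ρ cA v = v → v = 0) {v : V}
    (hv : Spec ρ v) {L : List (ℕ × ℕ × ℕ)} (hL : ok p L = true) : v = 0 := by
  have h1 := total_spec h7 hv p L
  have h2 : ((total p L).map (ev ρ v)).sum = 0 := by
    apply List.sum_eq_zero
    intro w hw
    obtain ⟨t, ht, rfl⟩ := List.mem_map.1 hw
    have h3 := List.all_eq_true.1 hL t ht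
    rw [Bool.and_eq_true] at h3
    have h4 := Nat.eq_of_beq_eq_true h3.1
    have h5 := Nat.eq_of_beq_eq_true h3.2
    unfold ev
    rw [smul_mod hp t.2.1, smul_mod hp t.2.2.1, smul_mod hp t.2.2.2, h4, h5, ← smul_add, ← smul_add]
    unfold val
    have h6 := hv.s
    simp only [pow_zero, map_one, pow_one, pow_two, map_mul]
    rw [← map_add, ← map_add]
    change _ • ρ (elt t.1) (v + ρ xA v + ρ xA (ρ xA v)) = 0
    rw [h6, map_zero, smul_zero]
  rw [h2] at h1
  have h3 : p • v = (p - 1) • v + v := by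
    rw [← succ_nsmul, Nat.sub_add_cancel hp0]
  rw [hp, ← h1, zero_add] at h3
  exact h3.symm

end

/-- certificate for characteristic 2 -/
def cert2 : List (ℕ × ℕ × ℕ) :=
  [(1, 396, 283), (1, 818, 133), (1, 429, 1377), (1, 226, 283), (1, 451, 1451), (1, 209, 147), (1, 56, 2737),
  (1, 3269, 929), (1, 405, 133), (1, 418, 133), (1, 6, 3509), (1, 1620, 217), (1, 388, 1441), (1, 933, 37),
  (1, 25, 4459), (1, 112, 365), (1, 1622, 81), (1, 227, 929), (1, 56, 1387), (1, 106, 1307), (1, 3115, 81),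
  (1, 921, 67), (1, 465, 1579), (1, 395, 3377), (1, 389, 1579), (1, 780, 35), (1, 388, 67), (1, 1574, 17),
  (1, 3155, 51), (1, 1589, 365), (1, 790, 237), (1, 50, 2713), (1, 1, 283), (1, 194, 1733), (1, 214, 6285),
  (1, 475, 229), (1, 226, 3377), (1, 392, 1441), (1, 205, 217), (1, 1745, 1), (1, 394, 4459), (1, 467, 35),
  (1, 3178, 1377), (1, 933, 57), (1, 851, 19), (1, 1898, 35), (1, 845, 19), (1, 780, 1733), (1, 909, 1),
  (1, 1754, 51), (1, 780, 1377), (1, 1898, 33), (1, 781, 33), (1, 27, 1579), (1, 1571, 81), (1, 106, 35),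
  (1, 1817, 2713), (1, 851, 57), (1, 1562, 33), (1, 408, 57), (1, 468, 1377), (1, 58, 7473), (1, 7595, 19),
  (1, 426, 217), (1, 12, 283), (1, 418, 365), (1, 779, 1377), (1, 6251, 35), (1, 3162, 19), (1, 1734, 17),
  (1, 115, 133), (1, 104, 51), (1, 59, 1689), (1, 787, 57), (1, 393, 237), (1, 7451, 19), (1, 396, 2737),
  (1, 109, 51), (1, 98, 19), (1, 856, 1689), (1, 101, 3499), (1, 437, 1), (1, 48, 4459), (1, 474, 365)]

/-- certificate for characteristic 5 -/
def cert5 : List (ℕ × ℕ × ℕ) :=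
  [(2, 396, 2737), (3, 1882, 17), (2, 1713, 19), (4, 229, 613), (4, 218, 81), (1, 51, 1377), (3, 58, 35),
  (4, 6, 2221), (4, 25, 1681), (3, 844, 35), (4, 1893, 81), (3, 417, 67), (2, 52, 1441), (2, 794, 57),
  (1, 213, 57), (2, 1817, 81), (4, 859, 237), (4, 227, 283), (3, 1714, 59), (4, 908, 3499), (1, 867, 1441),
  (1, 777, 3425), (2, 390, 17), (3, 474, 147), (3, 388, 1377), (2, 786, 17), (3, 856, 37), (3, 3720, 57),
  (4, 1633, 237), (2, 409, 929), (4, 1, 57), (4, 3437, 57), (4, 1562, 237), (3, 25, 11691), (3, 3497, 33),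
  (2, 1814, 237), (1, 27, 37), (3, 438, 283), (4, 854, 217), (4, 818, 1), (1, 3376, 1), (3, 946, 35),
  (3, 844, 929), (3, 54, 1), (3, 99, 1689), (2, 1731, 81), (3, 56, 1579), (1, 57, 1441), (3, 1558, 1689),
  (1, 392, 3499), (2, 3, 1), (4, 27, 1579), (4, 116, 1451), (1, 58, 217), (4, 57, 59), (2, 98, 59),
  (4, 468, 37), (1, 411, 81), (2, 192, 7473), (2, 3267, 67), (4, 102, 17), (2, 818, 1387), (3, 930, 67),
  (2, 429, 1441), (1, 458, 59), (2, 816, 59), (3, 107, 7473), (2, 118, 217), (1, 461, 3499), (1, 396, 37),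
  (2, 1635, 1689), (4, 470, 1), (2, 204, 283), (4, 117, 147), (3, 97, 2713), (4, 1817, 1441), (1, 6838, 67),
  (2, 421, 81), (4, 818, 1441), (1, 3670, 37), (4, 454, 217), (3, 428, 67), (2, 411, 3435), (4, 773, 67),
  (2, 3468, 81), (2, 793, 1441), (3, 52, 37), (2, 6251, 1689), (3, 1816, 51), (2, 49, 2713), (4, 226, 929),
  (2, 115, 37), (1, 438, 59), (3, 945, 779), (2, 3155, 81), (2, 214, 3435), (1, 233, 57), (4, 6850, 1387),
  (3, 3681, 81), (3, 102, 779), (3, 117, 237), (3, 426, 1), (3, 1715, 147), (2, 921, 17), (4, 195, 6929),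
  (3, 790, 1), (4, 213, 3425), (3, 7510, 19), (3, 102, 1451), (1, 1558, 237), (1, 14, 3499), (4, 454, 1291),
  (3, 1748, 17), (2, 386, 1689), (4, 789, 67), (4, 395, 2737), (4, 6, 2603), (4, 388, 133), (2, 1732, 33),
  (1, 779, 67), (3, 396, 57), (4, 219, 57), (1, 923, 81), (4, 939, 37), (3, 99, 1377), (2, 226, 205),
  (3, 857, 217), (4, 858, 1579), (4, 106, 7473), (3, 3467, 57), (3, 3155, 3425), (4, 1, 1291), (3, 197, 1579),
  (1, 3750, 35), (3, 858, 237), (1, 473, 17), (1, 917, 365), (4, 842, 3425), (4, 7515, 67), (4, 872, 1),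
  (3, 24, 2403), (2, 388, 2737), (1, 944, 57), (3, 454, 1451), (1, 3, 2477), (1, 27419, 17), (3, 1818, 81),
  (2, 3682, 17), (1, 779, 2603), (4, 49, 59), (4, 854, 59), (1, 236, 67), (1, 939, 365), (2, 97, 937),
  (3, 1819, 19), (4, 1708, 237), (3, 213, 937), (2, 115, 779), (2, 6246, 217), (4, 838, 283), (1, 810, 67),
  (4, 192, 3377), (3, 3, 1197), (2, 196, 19), (1, 460, 35), (2, 907, 81), (2, 49, 357), (1, 1578, 1),
  (1, 1555, 19), (2, 196, 1689), (2, 1634, 33), (4, 438, 3425), (2, 26, 1377), (1, 404, 1689), (2, 436, 17),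
  (4, 461, 217), (4, 198, 229), (3, 420, 365), (3, 54, 1377), (4, 793, 147), (4, 1618, 929), (3, 779, 779),
  (3, 404, 67)]

theorem ok2 : ok 2 cert2 = true := by decide +kernel
theorem ok5 : ok 5 cert5 = true := by decide +kernel

/-- the element of order 4 exchanging the two 3-cycles -/
def mA : A7 := ⟨perm [3, 4, 5, 0, 2, 1, 6] [3, 5, 4, 0, 1, 2, 6] (by decide),
  Equiv.Perm.mem_alternatingGroup.2 (by decide +kernel)⟩

theorem xn : xA * nA = nA * (xA * xA) := code_inj (by decide +kernel)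
theorem yn : yA * nA = nA * (yA * yA) := code_inj (by decide +kernel)
theorem xm : xA * mA = mA * (yA * yA) := code_inj (by decide +kernel)
theorem ym : yA * mA = mA * xA := code_inj (by decide +kernel)

section

variable {V : Type*} [AddCommGroup V] {ρ : A7 →* AddMonoid.End V}

theorem eq_zero_spec {p : ℕ} (hp0 : p = 2 ∨ p = 5) (hp : ∀ v : V, p • v = 0) (h7 : ∀ v : V, ρ cA v = v → v = 0)
    {v : V} (hv : Spec ρ v) : v = 0 := by
  rcases hp0 with rfl | rfl
  · exact eq_zero_of_ok (by norm_num) hp h7 hv ok2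
  · exact eq_zero_of_ok (by norm_num) hp h7 hv ok5

theorem ap_eq {a b c d : A7} (h : a * b = c * d) (v : V) : ρ a (ρ b v) = ρ c (ρ d v) := by
  rw [← mul_ap, ← map_mul, h, map_mul, mul_ap]

theorem ap_mul (a b : A7) (v : V) : ρ (a * b) v = ρ a (ρ b v) := by rw [map_mul, mul_ap]

theorem xxx (v : V) : ρ xA (ρ xA (ρ xA v)) = v := by
  rw [← ap_mul, ← ap_mul]
  have h : xA * (xA * xA) = 1 := by rw [← x_cube, pow_succ, pow_two, mul_assoc]
  rw [← mul_assoc] at h
  rw [h, map_one]; rfl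

theorem yyy (v : V) : ρ yA (ρ yA (ρ yA v)) = v := by
  rw [← ap_mul, ← ap_mul]
  have h : yA * (yA * yA) = 1 := by rw [← y_cube, pow_succ, pow_two, mul_assoc]
  rw [← mul_assoc] at h
  rw [h, map_one]; rfl

theorem eq_zero_same {p : ℕ} (hp0 : p = 2 ∨ p = 5) (hp : ∀ v : V, p • v = 0) (h7 : ∀ v : V, ρ cA v = v → v = 0)
    {w : V} (h1 : w + ρ xA w + ρ xA (ρ xA w) = 0) (h2 : ρ yA w = ρ xA w) : w = 0 := by
  have key : ∀ w : V, w + ρ xA w + ρ xA (ρ xA w) = 0 → ρ yA w = ρ xA w → w + ρ nA w = 0 := by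
    intro w h1 h2
    apply eq_zero_spec hp0 hp h7
    have e1 : ρ xA (ρ nA w) = ρ nA (ρ xA (ρ xA w)) := by rw [ap_eq xn, ap_mul]
    have e2 : ρ nA (ρ xA w) = ρ xA (ρ xA (ρ nA w)) := by
      rw [← ap_mul, nx, ap_mul, ap_mul]
    have e3 : ρ yA (ρ nA w) = ρ nA (ρ yA (ρ yA w)) := by rw [ap_eq yn, ap_mul]
    refine ⟨?_, ?_, ?_⟩
    · rw [map_add, map_add, ← e2, e1]
      have e4 : w + ρ nA w + (ρ xA w + ρ nA (ρ xA (ρ xA w))) + (ρ xA (ρ xA w) + ρ nA (ρ xA w)) =
          (w + ρ xA w + ρ xA (ρ xA w)) + ρ nA (w + ρ xA w + ρ xA (ρ xA w)) := by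
        rw [map_add, map_add]; abel
      rw [e4, h1, map_zero, add_zero]
    · rw [map_add, map_add, e3, e1, h2, ap_eq xy_comm.symm, h2]
    · rw [map_add, ← ap_mul, nn, map_one]
      exact add_comm _ _
  have h3 := key w h1 h2
  have h4 : ρ xA w + ρ xA (ρ xA w) + ρ xA (ρ xA (ρ xA w)) = 0 := by
    rw [← map_add, ← map_add, h1, map_zero]
  have h5 : ρ yA (ρ xA w) = ρ xA (ρ xA w) := by rw [ap_eq xy_comm.symm, h2]
  have h6 := key (ρ xA w) h4 h5
  have h7' : ρ nA (ρ xA w) = ρ xA (ρ xA (ρ nA w)) := by rw [← ap_mul, nx, ap_mul, ap_mul]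
  have h8 : ρ nA w = -w := (neg_eq_of_add_eq_zero_right h3).symm
  rw [h7', h8, map_neg, map_neg] at h6
  have h9 : ρ xA w = ρ xA (ρ xA w) := by
    rw [← sub_eq_add_neg, sub_eq_zero] at h6
    exact h6
  have h10 : ρ xA (ρ xA w) = w := by
    have := congrArg (fun u => ρ xA u) h9
    simp only [xxx] at this
    exact this
  rw [h9.trans h10, h9.trans h10] at h1
  have h3w : (3 : ℕ) • w = 0 := by
    rw [show (3 : ℕ) = 1 + 1 + 1 from rfl, add_smul, add_smul, one_smul]
    exact h1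
  rcases hp0 with rfl | rfl
  · have h2w := hp w
    have : (3 : ℕ) • w = 2 • w + w := by rw [show (3 : ℕ) = 2 + 1 from rfl, add_smul, one_smul]
    rw [this, h2w, zero_add] at h3w
    exact h3w
  · have h5w := hp w
    have : (6 : ℕ) • w = 5 • w + w := by rw [show (6 : ℕ) = 5 + 1 from rfl, add_smul, one_smul]
    rw [h5w, zero_add, show (6 : ℕ) = 2 * 3 from rfl, mul_smul, h3w, smul_zero] at this
    exact this.symm

theorem eq_zero_inv {p : ℕ} (hp0 : p = 2 ∨ p = 5) (hp : ∀ v : V, p • v = 0) (h7 : ∀ v : V, ρ cA v = v → v = 0)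
    {w : V} (h1 : w + ρ xA w + ρ xA (ρ xA w) = 0) (h2 : ρ yA w = ρ xA (ρ xA w)) : w = 0 := by
  have e0 : ρ yA (ρ yA w) = ρ xA w := by
    rw [h2, ap_eq xy_comm.symm, ap_eq xy_comm.symm, h2, xxx]
  have e1 : ρ xA (ρ mA w) = ρ mA (ρ xA w) := by rw [ap_eq xm, ap_mul, e0]
  have e2 : ρ yA (ρ mA w) = ρ mA (ρ xA w) := ap_eq ym w
  have e3 : ρ xA (ρ mA (ρ xA w)) = ρ mA (ρ xA (ρ xA w)) := by
    rw [ap_eq xm, ap_mul, ap_eq xy_comm.symm, ap_eq xy_comm.symm, e0]
  have h3 : ρ mA w = 0 := by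
    apply eq_zero_same hp0 hp h7
    · rw [e1, e3, ← map_add, ← map_add, h1, map_zero]
    · rw [e2, e1]
  have h4 : ρ mA⁻¹ (ρ mA w) = w := by
    rw [← ap_mul, inv_mul_cancel, map_one]; rfl
  rw [← h4, h3, map_zero]

/-- **Modules for `A₇` in characteristic 2 and 5 without fixed points of the 7-cycles.** -/
theorem main {p : ℕ} (hp0 : p = 2 ∨ p = 5) (hp : ∀ v : V, p • v = 0) (h7 : ∀ v : V, ρ cA v = v → v = 0)
    {w : V} (h1 : w + ρ xA w + ρ xA (ρ xA w) = 0) (h2 : w + ρ yA w + ρ yA (ρ yA w) = 0) : w = 0 := by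
  have h3 : ρ yA w - ρ xA (ρ xA w) = 0 := by
    apply eq_zero_same hp0 hp h7
    · rw [map_sub, map_sub, xxx, ap_eq xy_comm, ap_eq xy_comm]
      have e1 : ρ yA w - ρ xA (ρ xA w) + (ρ yA (ρ xA w) - w) + (ρ yA (ρ xA (ρ xA w)) - ρ xA w) =
          ρ yA (w + ρ xA w + ρ xA (ρ xA w)) - (w + ρ xA w + ρ xA (ρ xA w)) := by
        rw [map_add, map_add]; abel
      rw [e1, h1, map_zero, sub_zero]
    · rw [map_sub, map_sub, xxx, ap_eq xy_comm, ap_eq xy_comm.symm, ap_eq xy_comm.symm, ← sub_eq_zero]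
      have e1 : ρ yA (ρ yA w) - ρ xA (ρ xA (ρ yA w)) - (ρ xA (ρ yA w) - w) =
          (w + ρ yA w + ρ yA (ρ yA w)) - (ρ yA w + ρ xA (ρ yA w) + ρ xA (ρ xA (ρ yA w))) := by abel
      have e2 : ρ xA (ρ xA (ρ yA w)) = ρ yA (ρ xA (ρ xA w)) := by rw [ap_eq xy_comm, ap_eq xy_comm]
      have e3 : ρ xA (ρ yA w) = ρ yA (ρ xA w) := ap_eq xy_comm w
      rw [e1, h2, e2, e3, ← map_add, ← map_add, h1, map_zero, sub_zero]
  exact eq_zero_inv hp0 hp h7 h1 (sub_eq_zero.1 h3)

end

end Cfsg.Agent.H413.U45.ASeven
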