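import Cfsg.Agent.H413.U45.Defs
import Cfsg.Agent.H421.Act
import Cfsg.Agent.H380.UF.ModThree

/-!
# Chief factors of the solvable radical of a group with the prime graph of `PSU(4,5)` (helper413)

If `7` and `13` do not divide `|K|` and divide the order of the simple socle `S` of `G ⧸ K` then `K` acts trivially on
its chief factors, which are modules for `G ⧸ K`.
-/

set_option autoImplicit false

namespace Cfsg.Agent.H413.U45.Chief

open Cfsg.Agent.H421.Act

universe u

/-- a maximal `G`-invariant subgroup of a solvable normal subgroup -/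
theorem exists_max' {G : Type*} [Group G] [Finite G] (K : Subgroup G) [K.Normal] (hK : K ≠ ⊥)
    (hs : Group.IsSolvable K) :
    ∃ (K1 : Subgroup G) (t : ℕ), K1.Normal ∧ K1 < K ∧ t.Prime ∧ (∀ x ∈ K, x ^ t ∈ K1) ∧
      (∀ x ∈ K, ∀ y ∈ K, x * y * x⁻¹ * y⁻¹ ∈ K1) ∧
      ∀ L : Subgroup G, L.Normal → K1 ≤ L → L ≤ K → L = K1 ∨ L = K := by
  classical
  obtain ⟨K1, ⟨hn, hlt⟩, hmax⟩ := Set.Finite.exists_maximal (s := {L : Subgroup G | L.Normal ∧ L < K})
    (Set.toFinite _) ⟨⊥, inferInstance, bot_lt_iff_ne_bot.2 hK⟩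
  have := hn
  have hcase : ∀ L : Subgroup G, L.Normal → K1 ≤ L → L ≤ K → L = K1 ∨ L = K := by
    intro L hL h1 h2
    rcases eq_or_lt_of_le h2 with h3 | h3
    · exact Or.inr h3
    · exact Or.inl (le_antisymm (hmax ⟨hL, h3⟩ h1) h1)
  -- commutators
  have hcomm : ∀ x ∈ K, ∀ y ∈ K, x * y * x⁻¹ * y⁻¹ ∈ K1 := by
    have h1 : ⁅K, K⁆ ⊔ K1 = K1 ∨ ⁅K, K⁆ ⊔ K1 = K :=
      hcase _ inferInstance le_sup_right (sup_le (Subgroup.commutator_le_left K K) hlt.le)
    rcases h1 with h1 | h1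
    · intro x hx y hy
      have h2 : ⁅K, K⁆ ≤ K1 := by rw [← h1]; exact le_sup_left
      have h3 := Subgroup.commutator_mem_commutator hx hy
      rw [commutatorElement_def] at h3
      exact h2 h3
    · exfalso
      let f := QuotientGroup.mk' K1
      have h2 : ⁅K.map f, K.map f⁆ = K.map f := by
        rw [← Subgroup.map_commutator]
        have h3 : (⁅K, K⁆ ⊔ K1).map f = ⁅K, K⁆.map f := by
          rw [Subgroup.map_sup]
          have h4 : K1.map f = ⊥ := by
            rw [Subgroup.map_eq_bot_iff, QuotientGroup.ker_mk']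
          rw [h4, sup_bot_eq]
        rw [← h3, h1]
      have h5 : Group.IsSolvable (K.map f) := by
        have h6 : Function.Surjective (f.subgroupMap K) := f.subgroupMap_surjective K
        exact Group.isSolvable_of_surjective h6
      have h7 : ∀ n, (derivedSeries (K.map f) n).map (K.map f).subtype = K.map f := by
        intro n
        induction n with
        | zero => rw [derivedSeries_zero, ← MonoidHom.range_eq_map, Subgroup.range_subtype]
        | succ n ih =>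
          rw [derivedSeries_succ, Subgroup.map_commutator, ih, h2]
      obtain ⟨n, hn'⟩ := h5
      have h8 := h7 n
      rw [hn', Subgroup.map_bot] at h8
      have h9 : K ≤ K1 := by
        rw [eq_comm, Subgroup.map_eq_bot_iff, QuotientGroup.ker_mk'] at h8
        exact h8
      exact absurd h9 (not_le_of_gt hlt)
  -- exponent
  have hidx : K1.relIndex K ≠ 1 := by
    intro h
    exact absurd (Subgroup.relIndex_eq_one.1 h) (not_le_of_gt hlt)
  obtain ⟨t, ht, hdt⟩ := Nat.exists_prime_and_dvd hidx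
  have hfact : Fact t.Prime := ⟨ht⟩
  let f := QuotientGroup.mk' K1
  have hab : ∀ a ∈ K.map f, ∀ b ∈ K.map f, a * b = b * a := by
    rintro _ ⟨x, hx, rfl⟩ _ ⟨y, hy, rfl⟩
    have h1 : f (x * y * x⁻¹ * y⁻¹) = 1 := (QuotientGroup.eq_one_iff _).2 (hcomm x hx y hy)
    rw [map_mul, map_mul, map_mul, map_inv, map_inv, mul_inv_eq_one, mul_inv_eq_iff_eq_mul] at h1
    exact h1
  let T : Subgroup G :=
    { carrier := {x | x ∈ K ∧ x ^ t ∈ K1}
      one_mem' := ⟨K.one_mem, by rw [one_pow]; exact K1.one_mem⟩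
      mul_mem' := by
        rintro x y ⟨hx, hx'⟩ ⟨hy, hy'⟩
        refine ⟨K.mul_mem hx hy, ?_⟩
        rw [← QuotientGroup.eq_one_iff] at hx' hy' ⊢
        have h1 : Commute (f x) (f y) := hab _ ⟨x, hx, rfl⟩ _ ⟨y, hy, rfl⟩
        have h2 := h1.mul_pow t
        have h3 : (((x * y) ^ t : G) : G ⧸ K1) = (f x * f y) ^ t := by
          change f ((x * y) ^ t) = _
          rw [map_pow, map_mul]
        rw [h3, h2, ← map_pow, ← map_pow]
        change ((x ^ t : G) : G ⧸ K1) * ((y ^ t : G) : G ⧸ K1) = 1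
        rw [hx', hy', one_mul]
      inv_mem' := by
        rintro x ⟨hx, hx'⟩
        exact ⟨K.inv_mem hx, by rw [inv_pow]; exact K1.inv_mem hx'⟩ }
  have hTn : T.Normal := by
    refine ⟨fun x hx g => ⟨‹K.Normal›.conj_mem x hx.1 g, ?_⟩⟩
    rw [conj_pow]
    exact hn.conj_mem _ hx.2 g
  have hK1T : K1 ≤ T := fun x hx => ⟨hlt.le hx, K1.pow_mem hx t⟩
  have hT : T = K1 ∨ T = K := hcase T hTn hK1T (fun x hx => hx.1)
  refine ⟨K1, t, hn, hlt, ht, ?_, hcomm, hcase⟩
  rcases hT with hT | hT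
  · exfalso
    have hc : t ∣ Nat.card (K.map f) := by
      have h1 : Nat.card (K.map f) = K1.relIndex K := by
        rw [← Subgroup.relIndex_ker, QuotientGroup.ker_mk']
      rw [h1]
      exact hdt
    obtain ⟨y, hy⟩ := exists_prime_orderOf_dvd_card' t hc
    obtain ⟨x, hx, hxy⟩ := y.2
    have h1 : f x ^ t = 1 := by
      rw [hxy]
      have := pow_orderOf_eq_one y
      rw [hy] at this
      exact congrArg Subtype.val this
    have h2 : x ∈ T := by
      refine ⟨hx, ?_⟩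
      rw [← QuotientGroup.eq_one_iff]
      change f (x ^ t) = 1
      rw [map_pow, h1]
    rw [hT] at h2
    have h3 : y = 1 := by
      apply Subtype.ext
      rw [← hxy]
      exact (QuotientGroup.eq_one_iff x).2 h2
    rw [h3, orderOf_one] at hy
    exact ht.one_lt.ne hy
  · intro x hx
    rw [← hT] at hx
    exact hx.2

/-- the chief factor of an element of prime order -/
theorem exists_chief {G : Type*} [Group G] [Finite G] (K : Subgroup G) [K.Normal] (hs : Group.IsSolvable K)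
    {t : ℕ} (ht : t.Prime) {z : G} (hz : z ∈ K) (hzt : orderOf z = t) :
    ∃ B A : Subgroup G, B.Normal ∧ A.Normal ∧ B ≤ A ∧ A ≤ K ∧ (∀ x ∈ A, x ^ t ∈ B) ∧
      (∀ x ∈ A, ∀ y ∈ A, x * y * x⁻¹ * y⁻¹ ∈ B) ∧ z ∈ A ∧ z ∉ B ∧
      ∀ L : Subgroup G, L.Normal → B ≤ L → L ≤ A → L = B ∨ L = A := by
  have hA : Subgroup.normalClosure {z} ≤ K := Subgroup.normalClosure_le_normal (by simpa using hz)
  have hzA : z ∈ Subgroup.normalClosure {z} := Subgroup.subset_normalClosure (Set.mem_singleton z)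
  have hAs : Group.IsSolvable (Subgroup.normalClosure {z}) :=
    Group.isSolvable_of_isSolvable_injective (Subgroup.inclusion_injective hA)
  have hne : Subgroup.normalClosure {z} ≠ ⊥ := by
    intro h
    rw [h, Subgroup.mem_bot] at hzA
    rw [hzA, orderOf_one] at hzt
    exact ht.one_lt.ne hzt
  obtain ⟨B, t', hBn, hlt, ht', hexp, hcomm, hcase⟩ := exists_max' (Subgroup.normalClosure {z}) hne hAs
  have hzB : z ∉ B := by
    intro h
    have : Subgroup.normalClosure {z} ≤ B := Subgroup.normalClosure_le_normal (by simpa using h)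
    exact absurd this (not_le_of_gt hlt)
  have htt : t = t' := by
    by_contra hne'
    apply hzB
    have h1 := hexp z hzA
    have h2 : z ^ t ∈ B := by rw [← hzt, pow_orderOf_eq_one]; exact B.one_mem
    have h3 : Nat.gcd t t' = 1 := (Nat.coprime_primes ht ht').2 hne'
    have h4 : ((z : G) : G ⧸ B) = 1 := by
      rw [← orderOf_eq_one_iff, ← Nat.dvd_one, ← h3]
      refine Nat.dvd_gcd (orderOf_dvd_of_pow_eq_one ?_) (orderOf_dvd_of_pow_eq_one ?_)
      · rw [← QuotientGroup.mk_pow]; exact (QuotientGroup.eq_one_iff _).2 h2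
      · rw [← QuotientGroup.mk_pow]; exact (QuotientGroup.eq_one_iff _).2 h1
    exact (QuotientGroup.eq_one_iff _).1 h4
  subst htt
  exact ⟨B, _, hBn, inferInstance, hlt.le, hA, hexp, hcomm, hzA, hzB, hcase⟩

/-- a normal elementary abelian subgroup of a solvable normal subgroup -/
theorem exists_elem {Y : Type*} [Group Y] [Finite Y] (M : Subgroup Y) [hM : M.Normal] (hne : M ≠ ⊥)
    (hs : Group.IsSolvable M) :
    ∃ (E : Subgroup Y) (r : ℕ), E.Normal ∧ E ≤ M ∧ r.Prime ∧ (∀ x ∈ E, ∀ y ∈ E, x * y = y * x) ∧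
      (∀ x ∈ E, x ^ r = 1) ∧ ∃ x ∈ E, x ≠ 1 := by
  classical
  have hex : ∃ n, derivedSeries M n = ⊥ := hs.solvable
  have hn0 : Nat.find hex ≠ 0 := by
    intro h
    have h1 := Nat.find_spec hex
    rw [h, derivedSeries_zero] at h1
    apply hne
    rw [eq_bot_iff]
    intro x hx
    have h2 : (⟨x, hx⟩ : M) ∈ (⊤ : Subgroup M) := Subgroup.mem_top _
    rw [h1, Subgroup.mem_bot] at h2
    rw [Subgroup.mem_bot]
    exact congrArg Subtype.val h2
  obtain ⟨n, hn⟩ := Nat.exists_eq_succ_of_ne_zero hn0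
  have h1 : derivedSeries M n ≠ ⊥ := Nat.find_min hex (by rw [hn]; exact Nat.lt_succ_self n)
  have h2 : ⁅derivedSeries M n, derivedSeries M n⁆ = ⊥ := by
    rw [← derivedSeries_succ, ← Nat.succ_eq_add_one, ← hn]
    exact Nat.find_spec hex
  set N : Subgroup Y := (derivedSeries M n).map M.subtype with hN
  have hNn : N.Normal := ConjAct.normal_of_characteristic_of_normal
  have hNc : ∀ x ∈ N, ∀ y ∈ N, x * y = y * x := by
    rintro _ ⟨x, hx, rfl⟩ _ ⟨y, hy, rfl⟩
    have h3 := Subgroup.commutator_mem_commutator hx hy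
    rw [h2, Subgroup.mem_bot, commutatorElement_def, mul_inv_eq_one, mul_inv_eq_iff_eq_mul] at h3
    rw [← map_mul, h3, map_mul]
  have hNb : N ≠ ⊥ := by
    intro h
    rw [hN, Subgroup.map_eq_bot_iff_of_injective _ M.subtype_injective] at h
    exact h1 h
  have hNcard : Nat.card N ≠ 1 := fun h => hNb (Subgroup.card_eq_one.1 h)
  obtain ⟨r, hr, hrd⟩ := Nat.exists_prime_and_dvd hNcard
  have hf : Fact r.Prime := ⟨hr⟩
  let E : Subgroup Y :=
    { carrier := {x | x ∈ N ∧ x ^ r = 1}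
      one_mem' := ⟨N.one_mem, one_pow _⟩
      mul_mem' := by
        rintro x y ⟨hx, hx'⟩ ⟨hy, hy'⟩
        refine ⟨N.mul_mem hx hy, ?_⟩
        rw [(show Commute x y from hNc x hx y hy).mul_pow, hx', hy', one_mul]
      inv_mem' := by
        rintro x ⟨hx, hx'⟩
        exact ⟨N.inv_mem hx, by rw [inv_pow, hx', inv_one]⟩ }
  obtain ⟨y, hy⟩ := exists_prime_orderOf_dvd_card' r hrd
  refine ⟨E, r, ⟨fun x hx g => ⟨hNn.conj_mem x hx.1 g, ?_⟩⟩, ?_, hr, ?_, fun x hx => hx.2, y, ⟨y.2, ?_⟩, ?_⟩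
  · rw [conj_pow, hx.2, mul_one, mul_inv_cancel]
  · rintro x ⟨⟨z, hz, rfl⟩, -⟩
    exact z.2
  · exact fun x hx y hy => hNc x hx.1 y hy.1
  · have := pow_orderOf_eq_one y
    rw [hy] at this
    exact congrArg Subtype.val this
  · intro h
    have : y = 1 := Subtype.ext h
    rw [this, orderOf_one] at hy
    exact hr.one_lt.ne hy

/-- an element of prime order without fixed points on a faithful module centralizes normal elementary abelian
subgroups -/
theorem frob_case {Y V : Type*} [Group Y] [Finite Y] [AddCommGroup V] (ρ : Y →* AddMonoid.End V) (E : Subgroup Y)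
    [hE : E.Normal] (hEc : ∀ x ∈ E, ∀ y ∈ E, x * y = y * x) {r s t : ℕ} (hr : r.Prime) (hs : s.Prime) (ht : t.Prime)
    (hEr : ∀ x ∈ E, x ^ r = 1) (hrs : r ≠ s) (hrt : r ≠ t) {x : Y} (hx : x ^ s = 1)
    (hV : ∀ v, ρ x v = v → v = 0) (hexp : ∀ v : V, t • v = 0) (hfaith : ∀ e ∈ E, (∀ v, ρ e v = v) → e = 1) :
    ∀ e ∈ E, x * e = e * x := by
  have hconj : ∀ e ∈ E, x * e * x⁻¹ ∈ E := fun e he => hE.conj_mem e he x
  have hcm : ∀ e ∈ E, x * e * x⁻¹ * e⁻¹ ∈ E := fun e he => E.mul_mem (hconj e he) (E.inv_mem he)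
  let T : Subgroup Y :=
    { carrier := {y | ∃ e ∈ E, y = x * e * x⁻¹ * e⁻¹}
      one_mem' := ⟨1, E.one_mem, by simp⟩
      mul_mem' := by
        rintro _ _ ⟨e, he, rfl⟩ ⟨d, hd, rfl⟩
        refine ⟨e * d, E.mul_mem he hd, ?_⟩
        have h1 : e⁻¹ * (x * d * x⁻¹) = (x * d * x⁻¹) * e⁻¹ := hEc _ (E.inv_mem he) _ (hconj d hd)
        have h2 : e⁻¹ * d⁻¹ = d⁻¹ * e⁻¹ := hEc _ (E.inv_mem he) _ (E.inv_mem hd)
        calc x * e * x⁻¹ * e⁻¹ * (x * d * x⁻¹ * d⁻¹) = x * e * x⁻¹ * (e⁻¹ * (x * d * x⁻¹)) * d⁻¹ := by group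
          _ = x * e * x⁻¹ * (x * d * x⁻¹) * (e⁻¹ * d⁻¹) := by rw [h1]; group
          _ = x * (e * d) * x⁻¹ * (e * d)⁻¹ := by rw [h2]; group
      inv_mem' := by
        rintro _ ⟨e, he, rfl⟩
        refine ⟨e⁻¹, E.inv_mem he, ?_⟩
        have h1 := hEc _ he _ (hconj _ (E.inv_mem he))
        calc (x * e * x⁻¹ * e⁻¹)⁻¹ = e * (x * e⁻¹ * x⁻¹) := by group
          _ = x * e⁻¹ * x⁻¹ * e := h1
          _ = x * e⁻¹ * x⁻¹ * e⁻¹⁻¹ := by rw [inv_inv] }
  have hTE : T ≤ E := by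
    rintro _ ⟨e, he, rfl⟩
    exact hcm e he
  have key := frob_trivial ρ T x s hs.pos hx ?_ ?_ hV ?_
  · intro e he
    have h1 := key (x * e * x⁻¹ * e⁻¹) ⟨e, he, rfl⟩
    have h2 := hfaith _ (hcm e he) h1
    rw [mul_inv_eq_one, mul_inv_eq_iff_eq_mul] at h2
    exact h2
  · rintro _ ⟨e, he, rfl⟩
    exact ⟨x * e * x⁻¹, hconj e he, by group⟩
  · rintro i hi his _ ⟨e, he, rfl⟩ hcomm
    set a := x * e * x⁻¹ * e⁻¹ with ha
    -- `x` is a power of `x ^ i`
    have hxa : x * a = a * x := by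
      have hco : Nat.Coprime i s := by
        rw [Nat.coprime_comm, hs.coprime_iff_not_dvd]
        intro h
        exact absurd (Nat.le_of_dvd hi h) (not_le_of_gt his)
      obtain ⟨m, hm⟩ := Nat.exists_mul_mod_eq_one_of_coprime hco hs.one_lt
      have h3 : (x ^ i) ^ m = x := by
        rw [← pow_mul, ← Nat.div_add_mod (i * m) s, hm.2, pow_add, pow_mul, hx, one_pow, one_mul, pow_one]
      have h4 : Commute ((x ^ i) ^ m) a := (show Commute (x ^ i) a from hcomm).pow_left m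
      rw [h3] at h4
      exact h4
    have hpow : ∀ n : ℕ, x ^ n * e * (x ^ n)⁻¹ = a ^ n * e := by
      intro n
      induction n with
      | zero => simp
      | succ n ih =>
        have h5 : x * a ^ n = a ^ n * x := ((show Commute x a from hxa).pow_right n).eq
        calc x ^ (n + 1) * e * (x ^ (n + 1))⁻¹ = x * (x ^ n * e * (x ^ n)⁻¹) * x⁻¹ := by
              rw [pow_succ']; group
          _ = x * a ^ n * e * x⁻¹ := by rw [ih]; group
          _ = a ^ n * (x * e * x⁻¹ * e⁻¹) * e := by rw [h5]; group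
          _ = a ^ (n + 1) * e := by rw [← ha, pow_succ]
    have h6 := hpow s
    rw [hx, inv_one, mul_one, one_mul] at h6
    have h7 : a ^ s = 1 := by
      have := h6.symm
      rwa [mul_eq_right] at this
    have h8 : a ^ r = 1 := hEr _ (hcm e he)
    rw [← orderOf_eq_one_iff, ← Nat.dvd_one, ← (Nat.coprime_primes hr hs).2 hrs]
    exact Nat.dvd_gcd (orderOf_dvd_of_pow_eq_one h8) (orderOf_dvd_of_pow_eq_one h7)
  · intro v hv
    have hTp : IsPGroup r T := by
      intro y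
      refine ⟨1, ?_⟩
      rw [pow_one]
      apply Subtype.ext
      exact hEr y (hTE y.2)
    have hfr : Fact r.Prime := ⟨hr⟩
    obtain ⟨n, hn⟩ := IsPGroup.iff_card.1 hTp
    rw [hn] at hv
    have h1 : addOrderOf v ∣ r ^ n := addOrderOf_dvd_of_nsmul_eq_zero hv
    have h2 : addOrderOf v ∣ t := addOrderOf_dvd_of_nsmul_eq_zero (hexp v)
    have h3 : Nat.Coprime (r ^ n) t := Nat.Coprime.pow_left n ((Nat.coprime_primes hr ht).2 hrt)
    have h4 : addOrderOf v = 1 := Nat.eq_one_of_dvd_coprimes h3 h1 h2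
    exact AddMonoid.addOrderOf_eq_one_iff.1 h4

theorem prime_cases {G : Type u} [Group G] [Finite G] (hG : Gr G) {K : Subgroup G} (h7 : ¬ 7 ∣ Nat.card K)
    (h13 : ¬ 13 ∣ Nat.card K) {p : ℕ} (hp : p.Prime) (h : p ∣ Nat.card K) : p = 2 ∨ p = 3 ∨ p = 5 := by
  rcases (hG.primes p hp).1 (h.trans (Subgroup.card_subgroup_dvd_card K)) with rfl | rfl | rfl | rfl | rfl
  · exact Or.inl rfl
  · exact Or.inr (Or.inl rfl)
  · exact Or.inr (Or.inr rfl)
  · exact absurd h h7
  · exact absurd h h13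

/-- **`K` acts trivially on its chief factors.** -/
theorem acts {G : Type u} [Group G] [Finite G] (hG : Gr G) (K : Subgroup G) [K.Normal] (S : Subgroup (G ⧸ K))
    (hS : Sec G K S) (h7 : ¬ 7 ∣ Nat.card K) (h13 : ¬ 13 ∣ Nat.card K) (h7S : 7 ∣ Nat.card S)
    (h13S : 13 ∣ Nat.card S) {B A : Subgroup G} [hBn : B.Normal] [hAn : A.Normal] (hBA : B ≤ A) (hAK : A ≤ K)
    {t : ℕ} (ht : t.Prime) (hexp : ∀ x ∈ A, x ^ t ∈ B) (hcomm : ∀ x ∈ A, ∀ y ∈ A, x * y * x⁻¹ * y⁻¹ ∈ B)
    (hne : ∃ z ∈ A, z ∉ B) (hcase : ∀ L : Subgroup G, L.Normal → B ≤ L → L ≤ A → L = B ∨ L = A) :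
    ∀ k ∈ K, ∀ a ∈ A, k * a * k⁻¹ * a⁻¹ ∈ B := by
  classical
  by_contra hcon
  push Not at hcon
  obtain ⟨k0, hk0, a0, ha0, hka⟩ := hcon
  have hft : Fact t.Prime := ⟨ht⟩
  let f := QuotientGroup.mk' B
  have hf1 : ∀ x : G, f x = 1 ↔ x ∈ B := fun x => QuotientGroup.eq_one_iff x
  let W : Subgroup (G ⧸ B) := A.map f
  have hWn : W.Normal := Subgroup.Normal.map inferInstance f (QuotientGroup.mk'_surjective B)
  have hab : ∀ a ∈ W, ∀ b ∈ W, a * b = b * a := by
    rintro _ ⟨x, hx, rfl⟩ _ ⟨y, hy, rfl⟩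
    have h1 : f (x * y * x⁻¹ * y⁻¹) = 1 := (hf1 _).2 (hcomm x hx y hy)
    rw [map_mul, map_mul, map_mul, map_inv, map_inv, mul_inv_eq_one, mul_inv_eq_iff_eq_mul] at h1
    exact h1
  have hWexp : ∀ w : W, w ^ t = 1 := by
    rintro ⟨_, x, hx, rfl⟩
    apply Subtype.ext
    change f x ^ t = 1
    rw [← map_pow]
    exact (hf1 _).2 (hexp x hx)
  let _ : CommGroup W := { (inferInstance : Group W) with
    mul_comm := fun a b => Subtype.ext (hab a a.2 b b.2) }
  let c : G →* MulAut W := (MulAut.conjNormal (H := W)).comp f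
  have hc : ∀ (g : G) (w : W), ((c g w : W) : G ⧸ B) = f g * w * (f g)⁻¹ := fun g w => MulAut.conjNormal_apply _ _
  -- trivial action in terms of commutators
  have hc1 : ∀ g : G, c g = 1 ↔ ∀ a ∈ A, g * a * g⁻¹ * a⁻¹ ∈ B := by
    intro g
    constructor
    · intro h a ha
      have h1 := hc g ⟨f a, a, ha, rfl⟩
      rw [h] at h1
      rw [← hf1, map_mul, map_mul, map_mul, map_inv, map_inv, mul_inv_eq_one]
      exact h1.symm
    · intro h
      apply MulEquiv.ext
      rintro ⟨_, a, ha, rfl⟩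
      apply Subtype.ext
      rw [hc]
      have h1 := (hf1 _).2 (h a ha)
      rw [map_mul, map_mul, map_mul, map_inv, map_inv, mul_inv_eq_one] at h1
      exact h1
  let C : Subgroup G := c.ker ⊓ K
  have hCn : C.Normal := inferInstance
  have hBC : B ≤ C := by
    intro b hb
    refine ⟨MonoidHom.mem_ker.2 ?_, hAK (hBA hb)⟩
    rw [hc1]
    intro a ha
    have : b * a * b⁻¹ * a⁻¹ = b * (a * b⁻¹ * a⁻¹) := by group
    rw [this]
    exact B.mul_mem hb (hBn.conj_mem _ (B.inv_mem hb) a)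
  have hCK : C ≤ K := inf_le_right
  have hkC : k0 ∉ C := by
    intro h
    exact hka ((hc1 k0).1 (MonoidHom.mem_ker.1 h.1) a0 ha0)
  let g' := QuotientGroup.mk' C
  have hg1 : ∀ x : G, g' x = 1 ↔ x ∈ C := fun x => QuotientGroup.eq_one_iff x
  let M : Subgroup (G ⧸ C) := K.map g'
  have hMn : M.Normal := Subgroup.Normal.map inferInstance g' (QuotientGroup.mk'_surjective C)
  have hMne : M ≠ ⊥ := by
    intro h
    have h1 : g' k0 ∈ M := ⟨k0, hk0, rfl⟩
    rw [h, Subgroup.mem_bot] at h1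
    exact hkC ((hg1 _).1 h1)
  have hKs := hS.solK
  have hMs : Group.IsSolvable M := Group.isSolvable_of_surjective (g'.subgroupMap_surjective K)
  obtain ⟨E, r, hEn, hEM, hr, hEc, hEr, e0, he0, he01⟩ := exists_elem M hMne hMs
  have hfr : Fact r.Prime := ⟨hr⟩
  have hoe : orderOf e0 = r := orderOf_eq_prime (hEr e0 he0) he01
  let c' : (G ⧸ C) →* MulAut W := QuotientGroup.lift C c (fun x hx => MonoidHom.mem_ker.1 hx.1)
  have hc' : ∀ g : G, c' (g' g) = c g := fun g => rfl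
  have hfaith : ∀ e ∈ E, c' e = 1 → e = 1 := by
    intro e he h
    obtain ⟨k, hk, rfl⟩ := hEM he
    rw [hc'] at h
    exact (hg1 k).2 ⟨MonoidHom.mem_ker.2 h, hk⟩
  -- `r ≠ t`
  have hrt : r ≠ t := by
    rintro rfl
    have hEp : IsPGroup r E := by
      intro y
      refine ⟨1, ?_⟩
      rw [pow_one]
      exact Subtype.ext (hEr y y.2)
    let _ : MulAction E W := MulAction.compHom W (c'.comp E.subtype)
    have hsm : ∀ (e : E) (w : W), e • w = c' e w := fun _ _ => rfl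
    obtain ⟨z, hz, hzB⟩ := hne
    have hdW : r ∣ Nat.card W := by
      have h1 : orderOf (⟨f z, z, hz, rfl⟩ : W) = r := by
        refine orderOf_eq_prime (hWexp _) ?_
        intro h
        exact hzB ((hf1 z).1 (congrArg Subtype.val h))
      rw [← h1]
      exact orderOf_dvd_natCard _
    obtain ⟨b, hb, hb1⟩ := hEp.exists_fixed_point_of_prime_dvd_card_of_fixed_point W hdW (a := (1 : W)) (by
      intro e
      rw [hsm, map_one])
    let F : Subgroup G :=
      { carrier := {a | a ∈ A ∧ ∀ g : G, g' g ∈ E → g * a * g⁻¹ * a⁻¹ ∈ B}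
        one_mem' := ⟨A.one_mem, fun g _ => by simp⟩
        mul_mem' := by
          rintro a d ⟨ha, ha'⟩ ⟨hd, hd'⟩
          refine ⟨A.mul_mem ha hd, fun g hg => ?_⟩
          have : g * (a * d) * g⁻¹ * (a * d)⁻¹ = (g * a * g⁻¹ * a⁻¹) * (a * (g * d * g⁻¹ * d⁻¹) * a⁻¹) := by group
          rw [this]
          exact B.mul_mem (ha' g hg) (hBn.conj_mem _ (hd' g hg) a)
        inv_mem' := by
          rintro a ⟨ha, ha'⟩
          refine ⟨A.inv_mem ha, fun g hg => ?_⟩
          have : g * a⁻¹ * g⁻¹ * a⁻¹⁻¹ = a⁻¹ * (g * a * g⁻¹ * a⁻¹)⁻¹ * a⁻¹⁻¹ := by group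
          rw [this]
          exact hBn.conj_mem _ (B.inv_mem (ha' g hg)) a⁻¹ }
    have hFn : F.Normal := by
      refine ⟨fun a ha h => ⟨hAn.conj_mem a ha.1 h, fun g hg => ?_⟩⟩
      have h1 : g' (h⁻¹ * g * h) ∈ E := by
        rw [map_mul, map_mul, map_inv]
        have := hEn.conj_mem _ hg (g' h)⁻¹
        rwa [inv_inv] at this
      have : g * (h * a * h⁻¹) * g⁻¹ * (h * a * h⁻¹)⁻¹ =
          h * ((h⁻¹ * g * h) * a * (h⁻¹ * g * h)⁻¹ * a⁻¹) * h⁻¹ := by group
      rw [this]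
      exact hBn.conj_mem _ (ha.2 _ h1) h
    have hBF : B ≤ F := by
      intro b hb
      refine ⟨hBA hb, fun g _ => B.mul_mem (hBn.conj_mem b hb g) (B.inv_mem hb)⟩
    rcases hcase F hFn hBF (fun a ha => ha.1) with h | h
    · obtain ⟨⟨_, a, ha, rfl⟩, hb⟩ : ∃ b' : W, b' = b := ⟨b, rfl⟩
      subst hb
      have haF : a ∈ F := by
        refine ⟨ha, fun g hg => ?_⟩
        have h1 := hb ⟨g' g, hg⟩
        rw [hsm] at h1
        have h2 : c g ⟨f a, a, ha, rfl⟩ = ⟨f a, a, ha, rfl⟩ := h1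
        have h3 := hc g ⟨f a, a, ha, rfl⟩
        rw [h2] at h3
        rw [← hf1, map_mul, map_mul, map_mul, map_inv, map_inv, mul_inv_eq_one]
        exact h3.symm
      rw [h] at haF
      exact hb1 (Subtype.ext ((hf1 a).2 haF).symm)
    · apply he01
      apply hfaith e0 he0
      obtain ⟨g, rfl⟩ := QuotientGroup.mk'_surjective C e0
      change c g = 1
      rw [hc1]
      intro a ha
      rw [← h] at ha
      exact ha.2 g he0
  -- the primes
  have htK : t ∣ Nat.card K := by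
    obtain ⟨z, hz, hzB⟩ := hne
    have h1 : orderOf (f z) = t := orderOf_eq_prime (by rw [← map_pow]; exact (hf1 _).2 (hexp z hz))
      (fun h => hzB ((hf1 z).1 h))
    have h2 : orderOf (f z) ∣ orderOf z := orderOf_map_dvd f z
    rw [h1] at h2
    have h3 : orderOf z = orderOf (⟨z, hAK hz⟩ : K) := (Subgroup.orderOf_mk z (hAK hz)).symm
    rw [h3] at h2
    exact h2.trans (orderOf_dvd_natCard _)
  have hrK : r ∣ Nat.card K := by
    obtain ⟨k, hk, hke⟩ := hEM he0
    have h2 : orderOf (g' k) ∣ orderOf k := orderOf_map_dvd g' k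
    rw [hke, hoe] at h2
    have h3 : orderOf k = orderOf (⟨k, hk⟩ : K) := (Subgroup.orderOf_mk k hk).symm
    rw [h3] at h2
    exact h2.trans (orderOf_dvd_natCard _)
  have ht' := prime_cases hG h7 h13 ht htK
  have hr' := prime_cases hG h7 h13 hr hrK
  obtain ⟨s, hs, hsS, hsK, hst⟩ : ∃ s : ℕ, s.Prime ∧ s ∣ Nat.card S ∧ ¬ s ∣ Nat.card K ∧
      ∀ g : G, orderOf g ≠ s * t := by
    rcases ht' with rfl | rfl | rfl
    · exact ⟨7, by norm_num, h7S, h7, fun g hg => hG.no14 g (hg.trans (by norm_num))⟩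
    · exact ⟨13, by norm_num, h13S, h13, fun g hg => hG.no39 g (hg.trans (by norm_num))⟩
    · exact ⟨7, by norm_num, h7S, h7, fun g hg => hG.no35 g (hg.trans (by norm_num))⟩
  have hrs : r ≠ s := by
    rintro rfl
    exact hsK hrK
  have hstne : s ≠ t := by
    rintro rfl
    exact hsK htK
  -- elements of order `s` centralize `E`
  let ρ : (G ⧸ C) →* AddMonoid.End (Additive W) := (toEnd W).comp c'
  have hcent : ∀ x : G ⧸ C, orderOf x = s → ∀ e ∈ E, x * e = e * x := by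
    intro x hx
    refine frob_case ρ E hEc hr hs ht hEr hrs hrt (by rw [← hx, pow_orderOf_eq_one]) ?_ (fun v => hWexp v.toMul) ?_
    · intro v hv
      obtain ⟨g, rfl⟩ := QuotientGroup.mk'_surjective C x
      have h1 : c g v.toMul = v.toMul := hv
      have h2 : f g * (v.toMul : W) * (f g)⁻¹ = (v.toMul : W) := by rw [← hc, h1]
      have h3 : Commute (f g) ((v.toMul : W) : G ⧸ B) := mul_inv_eq_iff_eq_mul.1 h2
      by_contra hv0
      have hv1 : (v.toMul : W) ≠ 1 := hv0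
      have h4 : t ∣ orderOf ((v.toMul : W) : G ⧸ B) := by
        rw [Subgroup.orderOf_coe, orderOf_eq_prime (hWexp _) hv1]
      have h5 : s ∣ orderOf (f g) := by
        rw [← hx]
        let φ : G ⧸ B →* G ⧸ C := QuotientGroup.map B C (MonoidHom.id G) hBC
        have h6 : φ (f g) = QuotientGroup.mk' C g := rfl
        rw [← h6]
        exact orderOf_map_dvd φ (f g)
      obtain ⟨y, hy⟩ := exists_mul_order h3 hs ht hstne h5 h4
      obtain ⟨u, hu, -⟩ := orderOf_lift f (QuotientGroup.mk'_surjective B) y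
      exact hst u (hu.trans hy)
    · intro e he h
      apply hfaith e he
      apply MulEquiv.ext
      intro w
      exact h (Additive.ofMul w)
  -- the centralizer of `E` covers `S`
  let D : Subgroup (G ⧸ C) := Subgroup.centralizer (E : Set (G ⧸ C))
  have hDn : D.Normal := inferInstance
  let π : G ⧸ C →* G ⧸ K := QuotientGroup.map C K (MonoidHom.id G) hCK
  have hπ : Function.Surjective π := by
    intro y
    obtain ⟨g, rfl⟩ := QuotientGroup.mk'_surjective K y
    exact ⟨g' g, rfl⟩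
  have hπk : ∀ y, π y = 1 → y ∈ M := by
    intro y hy
    obtain ⟨g, rfl⟩ := QuotientGroup.mk'_surjective C y
    exact ⟨g, (QuotientGroup.eq_one_iff g).1 hy, rfl⟩
  have hMK : Nat.card M ∣ Nat.card K := Subgroup.card_dvd_of_surjective _ (g'.subgroupMap_surjective K)
  have hSsimple := hS.simple
  have hSD : S ≤ D.map π := by
    have hSn := hS.normal
    have hDπ : (D.map π).Normal := Subgroup.Normal.map hDn π hπ
    have hfs : Fact s.Prime := ⟨hs⟩
    obtain ⟨σ, hσ⟩ := exists_prime_orderOf_dvd_card' s hsS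
    obtain ⟨y, hy, n, hn⟩ := orderOf_lift π hπ ((σ : S) : G ⧸ K)
    rw [Subgroup.orderOf_coe, hσ] at hy
    have hyD : y ∈ D := by
      rw [Subgroup.mem_centralizer_iff]
      exact fun e he => (hcent y hy e he).symm
    have hy1 : π y ≠ 1 := by
      intro h
      have h1 := hπk y h
      apply hsK
      have h3 : orderOf y = orderOf (⟨y, h1⟩ : M) := (Subgroup.orderOf_mk y h1).symm
      rw [← hy, h3]
      exact (orderOf_dvd_natCard _).trans hMK
    rcases hSsimple.eq_bot_or_eq_top_of_normal ((D.map π).subgroupOf S) inferInstance with h | h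
    · exfalso
      have h2 : σ ^ n ∈ (D.map π).subgroupOf S := by
        rw [Subgroup.mem_subgroupOf]
        exact ⟨y, hyD, hn⟩
      rw [h, Subgroup.mem_bot] at h2
      apply hy1
      rw [hn]
      exact congrArg Subtype.val h2
    · exact Subgroup.subgroupOf_eq_top.1 h
  have key : ∀ q : ℕ, q.Prime → q ∣ Nat.card S → q ≠ r → ∃ g : G, orderOf g = q * r := by
    intro q hq hqS hqr
    have hfq : Fact q.Prime := ⟨hq⟩
    obtain ⟨τ, hτ⟩ := exists_prime_orderOf_dvd_card' q hqS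
    obtain ⟨d, hd, hdτ⟩ := hSD τ.2
    have h1 : q ∣ orderOf d := by
      have h2 := orderOf_map_dvd π d
      rw [hdτ, Subgroup.orderOf_coe, hτ] at h2
      exact h2
    have h3 : Commute d e0 := ((Subgroup.mem_centralizer_iff.1 hd) e0 he0).symm
    obtain ⟨y, hy⟩ := exists_mul_order h3 hq hr hqr h1 (by rw [hoe])
    obtain ⟨u, hu, -⟩ := orderOf_lift g' (QuotientGroup.mk'_surjective C) y
    exact ⟨u, hu.trans hy⟩
  obtain ⟨g7, hg7⟩ := key 7 (by norm_num) h7S (by rintro rfl; exact h7 hrK)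
  obtain ⟨g13, hg13⟩ := key 13 (by norm_num) h13S (by rintro rfl; exact h13 hrK)
  rcases hr' with rfl | rfl | rfl
  · exact hG.no14 g7 (hg7.trans (by norm_num))
  · exact hG.no39 g13 (hg13.trans (by norm_num))
  · exact hG.no35 g7 (hg7.trans (by norm_num))

/-- the module of a section on which `K` acts trivially -/
theorem exists_module {G : Type u} [Group G] [Finite G] (K : Subgroup G) [K.Normal] {B A : Subgroup G}
    [hBn : B.Normal] [hAn : A.Normal] (hAK : A ≤ K) (hBA : B ≤ A) {t : ℕ} (ht : t.Prime)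
    (hexp : ∀ x ∈ A, x ^ t ∈ B) (hcomm : ∀ x ∈ A, ∀ y ∈ A, x * y * x⁻¹ * y⁻¹ ∈ B)
    (htriv : ∀ k ∈ K, ∀ a ∈ A, k * a * k⁻¹ * a⁻¹ ∈ B) {z : G} (hz : z ∈ A) (hzB : z ∉ B) :
    ∃ (V : Type u) (_ : AddCommGroup V) (_ : Nontrivial V) (_ : Finite V) (ρ : G ⧸ K →* AddMonoid.End V),
      (∀ v : V, t • v = 0) ∧
      (∀ r : ℕ, r.Prime → r ≠ t → (∀ g : G, orderOf g ≠ r * t) → ∀ x : G ⧸ K, orderOf x = r →
        ∀ v, ρ x v = v → v = 0) ∧
      ∀ g : G, g * z = z * g → ∃ v : V, v ≠ 0 ∧ ρ (g : G ⧸ K) v = v := by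
  classical
  let f := QuotientGroup.mk' B
  have hf1 : ∀ x : G, f x = 1 ↔ x ∈ B := fun x => QuotientGroup.eq_one_iff x
  let W : Subgroup (G ⧸ B) := A.map f
  have hWn : W.Normal := Subgroup.Normal.map inferInstance f (QuotientGroup.mk'_surjective B)
  have hab : ∀ a ∈ W, ∀ b ∈ W, a * b = b * a := by
    rintro _ ⟨x, hx, rfl⟩ _ ⟨y, hy, rfl⟩
    have h1 : f (x * y * x⁻¹ * y⁻¹) = 1 := (hf1 _).2 (hcomm x hx y hy)
    rw [map_mul, map_mul, map_mul, map_inv, map_inv, mul_inv_eq_one, mul_inv_eq_iff_eq_mul] at h1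
    exact h1
  have hWexp : ∀ w : W, w ^ t = 1 := by
    rintro ⟨_, x, hx, rfl⟩
    apply Subtype.ext
    change f x ^ t = 1
    rw [← map_pow]
    exact (hf1 _).2 (hexp x hx)
  let _ : CommGroup W := { (inferInstance : Group W) with
    mul_comm := fun a b => Subtype.ext (hab a a.2 b b.2) }
  let c : G →* MulAut W := (MulAut.conjNormal (H := W)).comp f
  have hc : ∀ (g : G) (w : W), ((c g w : W) : G ⧸ B) = f g * w * (f g)⁻¹ := fun g w => MulAut.conjNormal_apply _ _
  have hker : ∀ k ∈ K, c k = 1 := by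
    intro k hk
    apply MulEquiv.ext
    rintro ⟨_, a, ha, rfl⟩
    apply Subtype.ext
    rw [hc]
    have h1 := (hf1 _).2 (htriv k hk a ha)
    rw [map_mul, map_mul, map_mul, map_inv, map_inv, mul_inv_eq_one] at h1
    exact h1
  let w0 : W := ⟨f z, z, hz, rfl⟩
  have hw0 : w0 ≠ 1 := fun h => hzB ((hf1 z).1 (congrArg Subtype.val h))
  have hWnt : Nontrivial W := ⟨w0, 1, hw0⟩
  let ρ : G ⧸ K →* AddMonoid.End (Additive W) := (toEnd W).comp (QuotientGroup.lift K c hker)
  refine ⟨Additive W, inferInstance, inferInstance, inferInstance, ρ, fun v => hWexp v.toMul, ?_, ?_⟩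
  · intro r hr hrt hno x hx v hv
    obtain ⟨g, rfl⟩ := QuotientGroup.mk'_surjective K x
    have h1 : c g (Additive.toMul v) = Additive.toMul v := hv
    have h2 : f g * (Additive.toMul v : W) * (f g)⁻¹ = (Additive.toMul v : W) := by
      rw [← hc, h1]
    have h3 : Commute (f g) ((Additive.toMul v : W) : G ⧸ B) := mul_inv_eq_iff_eq_mul.1 h2
    by_contra hne
    have hne' : (Additive.toMul v : W) ≠ 1 := hne
    have h4 : t ∣ orderOf ((Additive.toMul v : W) : G ⧸ B) := by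
      have : Fact t.Prime := ⟨ht⟩
      rw [Subgroup.orderOf_coe, orderOf_eq_prime (hWexp _) hne']
    have h5 : r ∣ orderOf (f g) := by
      rw [← hx]
      let φ : G ⧸ B →* G ⧸ K := QuotientGroup.map B K (MonoidHom.id G) (hBA.trans hAK)
      have h6 : φ (f g) = QuotientGroup.mk' K g := rfl
      rw [← h6]
      exact orderOf_map_dvd φ (f g)
    obtain ⟨y, hy⟩ := exists_mul_order h3 hr ht hrt h5 h4
    obtain ⟨u, hu, -⟩ := orderOf_lift f (QuotientGroup.mk'_surjective B) y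
    exact hno u (hu.trans hy)
  · intro g hg
    refine ⟨Additive.ofMul w0, hw0, ?_⟩
    change Additive.ofMul (c g w0) = Additive.ofMul w0
    congr 1
    apply Subtype.ext
    rw [hc]
    change f g * f z * (f g)⁻¹ = f z
    rw [← map_mul, hg, map_mul, mul_inv_cancel_right]

/-- **Modules for `G ⧸ K` in each characteristic dividing `|K|`.** -/
theorem chief {G : Type u} [Group G] [Finite G] (hG : Gr G) (K : Subgroup G) [K.Normal] (S : Subgroup (G ⧸ K))
    (hS : Sec G K S) (h7 : ¬ 7 ∣ Nat.card K) (h13 : ¬ 13 ∣ Nat.card K) (h7S : 7 ∣ Nat.card S)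
    (h13S : 13 ∣ Nat.card S) {t : ℕ} (ht : t.Prime) (htK : t ∣ Nat.card K) :
    ∃ (V : Type u) (_ : AddCommGroup V) (_ : Nontrivial V) (_ : Finite V) (ρ : G ⧸ K →* AddMonoid.End V),
      (∀ v : V, t • v = 0) ∧ ∀ r : ℕ, r.Prime → r ≠ t → (∀ g : G, orderOf g ≠ r * t) → ∀ x : G ⧸ K, orderOf x = r →
        ∀ v, ρ x v = v → v = 0 := by
  have hft : Fact t.Prime := ⟨ht⟩
  obtain ⟨z, hz⟩ := exists_prime_orderOf_dvd_card' t htK
  have hzo : orderOf (z : G) = t := by rw [Subgroup.orderOf_coe, hz]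
  obtain ⟨B, A, hB, hA, hBA, hAK, hexp, hcomm, hzA, hzB, hcase⟩ := exists_chief K hS.solK ht z.2 hzo
  have htriv := acts hG K S hS h7 h13 h7S h13S hBA hAK ht hexp hcomm ⟨z, hzA, hzB⟩ hcase
  obtain ⟨V, i1, i2, i3, ρ, h1, h2, -⟩ := exists_module K hAK hBA ht hexp hcomm htriv hzA hzB
  exact ⟨V, i1, i2, i3, ρ, h1, h2⟩

/-- **A module in characteristic 2 on which an element of order 13 has fixed points.** -/
theorem chief13 {G : Type u} [Group G] [Finite G] (hG : Gr G) (K : Subgroup G) [K.Normal] (S : Subgroup (G ⧸ K))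
    (hS : Sec G K S) (h7 : ¬ 7 ∣ Nat.card K) (h13 : ¬ 13 ∣ Nat.card K) (h7S : 7 ∣ Nat.card S)
    (h13S : 13 ∣ Nat.card S) (hI : ¬ 13 ∣ S.index) (hno : ∀ x : G ⧸ K, orderOf x ≠ 26) :
    ∃ (V : Type u) (_ : AddCommGroup V) (_ : Nontrivial V) (_ : Finite V) (ρ : G ⧸ K →* AddMonoid.End V),
      (∀ v : V, 2 • v = 0) ∧ (∀ x : G ⧸ K, orderOf x = 7 → ∀ v, ρ x v = v → v = 0) ∧
      ∃ x : G ⧸ K, orderOf x = 13 ∧ x ∈ S ∧ ∃ v : V, v ≠ 0 ∧ ρ x v = v := by
  obtain ⟨g, hg⟩ := hG.has26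
  have hp2 : Nat.Prime 2 := by norm_num
  have hp13 : Nat.Prime 13 := by norm_num
  have hf13 : Fact (Nat.Prime 13) := ⟨hp13⟩
  have hzo : orderOf (g ^ 13) = 2 := by
    rw [orderOf_pow' g (by norm_num), hg]
    norm_num
  have huo : orderOf (g ^ 2) = 13 := by
    rw [orderOf_pow' g (by norm_num), hg]
    norm_num
  have hxo : orderOf ((g ^ 2 : G) : G ⧸ K) = 13 := by
    refine orderOf_eq_prime ?_ ?_
    · rw [← QuotientGroup.mk_pow, ← pow_mul]
      have : g ^ (2 * 13) = 1 := by rw [← hg, pow_orderOf_eq_one]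
      rw [this]
      rfl
    · intro h
      have h1 : g ^ 2 ∈ K := (QuotientGroup.eq_one_iff _).1 h
      apply h13
      have h3 : orderOf (g ^ 2) = orderOf (⟨g ^ 2, h1⟩ : K) := (Subgroup.orderOf_mk _ h1).symm
      rw [← huo, h3]
      exact orderOf_dvd_natCard _
  have hzK : g ^ 13 ∈ K := by
    by_contra hz
    have hz1 : ((g ^ 13 : G) : G ⧸ K) ≠ 1 := fun h => hz ((QuotientGroup.eq_one_iff _).1 h)
    have h1 : orderOf ((g : G) : G ⧸ K) ∣ 26 := by
      refine orderOf_dvd_of_pow_eq_one ?_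
      rw [← QuotientGroup.mk_pow]
      have : g ^ 26 = 1 := by
        have h2 := pow_orderOf_eq_one g
        rw [hg] at h2
        exact h2
      rw [this]
      rfl
    have h2 : 13 ∣ orderOf ((g : G) : G ⧸ K) := by
      rw [← hxo]
      have : ((g ^ 2 : G) : G ⧸ K) = ((g : G) : G ⧸ K) ^ 2 := rfl
      rw [this]
      exact orderOf_pow_dvd 2
    have h3 : ¬ orderOf ((g : G) : G ⧸ K) ∣ 13 := by
      intro h
      apply hz1
      have : ((g ^ 13 : G) : G ⧸ K) = ((g : G) : G ⧸ K) ^ 13 := rfl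
      rw [this]
      exact orderOf_dvd_iff_pow_eq_one.1 h
    obtain ⟨m, hm⟩ := h2
    rw [hm] at h1 h3
    have h4 : m ∣ 2 := Nat.dvd_of_mul_dvd_mul_left (by norm_num : 0 < 13) (by simpa using h1)
    rcases (Nat.dvd_prime hp2).1 h4 with h5 | h5
    · rw [h5] at h3
      exact h3 (by norm_num)
    · exact hno _ (by rw [hm, h5])
  obtain ⟨B, A, hB, hA, hBA, hAK, hexp, hcomm, hzA, hzB, hcase⟩ := exists_chief K hS.solK hp2 hzK hzo
  have htriv := acts hG K S hS h7 h13 h7S h13S hBA hAK hp2 hexp hcomm ⟨_, hzA, hzB⟩ hcase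
  obtain ⟨V, i1, i2, i3, ρ, h1, h2, h3⟩ := exists_module K hAK hBA hp2 hexp hcomm htriv hzA hzB
  refine ⟨V, i1, i2, i3, ρ, h1, ?_, ((g ^ 2 : G) : G ⧸ K), hxo, ?_, ?_⟩
  · exact h2 7 (by norm_num) (by norm_num) (fun x hx => hG.no14 x (hx.trans (by norm_num)))
  · have hSn := hS.normal
    by_contra hx
    apply hI
    have h4 : orderOf ((((g ^ 2 : G) : G ⧸ K)) : (G ⧸ K) ⧸ S) = 13 := by
      refine orderOf_eq_prime ?_ (fun h => hx ((QuotientGroup.eq_one_iff _).1 h))
      rw [← QuotientGroup.mk_pow]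
      have h5 := pow_orderOf_eq_one ((g ^ 2 : G) : G ⧸ K)
      rw [hxo] at h5
      rw [h5]
      rfl
    rw [← h4]
    exact orderOf_dvd_natCard _
  · exact h3 _ (by rw [← pow_add, ← pow_add])

end Cfsg.Agent.H413.U45.Chief
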