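import Cfsg.Agent.H380.UF.Basic
import Cfsg.Agent.Lib.AltCarmichael
import Cfsg.Agent.H413.U45.ASeven

/-!
# Elements of `SU₄(5)`: the subgroup `2.A₇` and a subgroup `SL₂(5)` (helper413)
-/

set_option autoImplicit false
set_option maxRecDepth 100000

namespace Cfsg.Agent.H413.U45.Elts

open Matrix Cfsg.Agent.H380.UF Cfsg.Agent.Lib.AltCarmichael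

def mX0 : M4 := !![⟨2, 2⟩, ⟨1, 2⟩, ⟨4, 3⟩, ⟨4, 1⟩; ⟨4, 2⟩, ⟨2, 3⟩, ⟨1, 4⟩, ⟨1, 2⟩; ⟨1, 3⟩, ⟨4, 4⟩, ⟨2, 3⟩, ⟨4, 2⟩; ⟨1, 1⟩, ⟨4, 2⟩, ⟨1, 2⟩, ⟨2, 2⟩]
def mX1 : M4 := !![⟨2, 2⟩, ⟨1, 2⟩, ⟨1, 3⟩, ⟨4, 4⟩; ⟨4, 2⟩, ⟨2, 3⟩, ⟨1, 1⟩, ⟨4, 2⟩; ⟨4, 3⟩, ⟨4, 1⟩, ⟨2, 3⟩, ⟨4, 2⟩; ⟨1, 4⟩, ⟨1, 2⟩, ⟨1, 2⟩, ⟨2, 2⟩]
def mX2 : M4 := !![⟨2, 2⟩, ⟨1, 2⟩, ⟨0, 4⟩, ⟨2, 0⟩; ⟨4, 2⟩, ⟨2, 3⟩, ⟨3, 0⟩, ⟨0, 1⟩; ⟨0, 4⟩, ⟨2, 0⟩, ⟨2, 3⟩, ⟨4, 2⟩; ⟨3, 0⟩, ⟨0, 1⟩, ⟨1, 2⟩, ⟨2, 2⟩]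
def mX3 : M4 := !![⟨2, 1⟩, ⟨4, 4⟩, ⟨0, 0⟩, ⟨0, 0⟩; ⟨1, 4⟩, ⟨2, 4⟩, ⟨0, 0⟩, ⟨0, 0⟩; ⟨0, 0⟩, ⟨0, 0⟩, ⟨2, 1⟩, ⟨4, 4⟩; ⟨0, 0⟩, ⟨0, 0⟩, ⟨1, 4⟩, ⟨2, 4⟩]
def mX4 : M4 := !![⟨2, 4⟩, ⟨1, 4⟩, ⟨0, 0⟩, ⟨0, 0⟩; ⟨4, 4⟩, ⟨2, 1⟩, ⟨0, 0⟩, ⟨0, 0⟩; ⟨0, 0⟩, ⟨0, 0⟩, ⟨2, 4⟩, ⟨1, 4⟩; ⟨0, 0⟩, ⟨0, 0⟩, ⟨4, 4⟩, ⟨2, 1⟩]
def mx : M4 := !![⟨2, 2⟩, ⟨0, 0⟩, ⟨0, 0⟩, ⟨0, 0⟩; ⟨0, 0⟩, ⟨2, 2⟩, ⟨0, 0⟩, ⟨0, 0⟩; ⟨0, 0⟩, ⟨0, 0⟩, ⟨2, 3⟩, ⟨0, 0⟩; ⟨0, 0⟩, ⟨0, 0⟩, ⟨0, 0⟩, ⟨2, 3⟩]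
def my : M4 := !![⟨2, 2⟩, ⟨0, 0⟩, ⟨0, 0⟩, ⟨0, 0⟩; ⟨0, 0⟩, ⟨2, 3⟩, ⟨0, 0⟩, ⟨0, 0⟩; ⟨0, 0⟩, ⟨0, 0⟩, ⟨2, 2⟩, ⟨0, 0⟩; ⟨0, 0⟩, ⟨0, 0⟩, ⟨0, 0⟩, ⟨2, 3⟩]
def mxy : M4 := !![⟨2, 3⟩, ⟨0, 0⟩, ⟨0, 0⟩, ⟨0, 0⟩; ⟨0, 0⟩, ⟨1, 0⟩, ⟨0, 0⟩, ⟨0, 0⟩; ⟨0, 0⟩, ⟨0, 0⟩, ⟨1, 0⟩, ⟨0, 0⟩; ⟨0, 0⟩, ⟨0, 0⟩, ⟨0, 0⟩, ⟨2, 2⟩]
def mj : M4 := !![⟨0, 0⟩, ⟨1, 0⟩, ⟨0, 0⟩, ⟨0, 0⟩; ⟨4, 0⟩, ⟨0, 0⟩, ⟨0, 0⟩, ⟨0, 0⟩; ⟨0, 0⟩, ⟨0, 0⟩, ⟨1, 0⟩, ⟨0, 0⟩; ⟨0, 0⟩, ⟨0, 0⟩, ⟨0, 0⟩, ⟨1, 0⟩]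
def ms : M4 := !![⟨2, 2⟩, ⟨0, 0⟩, ⟨0, 0⟩, ⟨0, 0⟩; ⟨0, 0⟩, ⟨2, 3⟩, ⟨0, 0⟩, ⟨0, 0⟩; ⟨0, 0⟩, ⟨0, 0⟩, ⟨1, 0⟩, ⟨0, 0⟩; ⟨0, 0⟩, ⟨0, 0⟩, ⟨0, 0⟩, ⟨1, 0⟩]
def mw : M4 := !![⟨0, 0⟩, ⟨0, 0⟩, ⟨0, 0⟩, ⟨1, 0⟩; ⟨1, 0⟩, ⟨0, 0⟩, ⟨0, 0⟩, ⟨0, 0⟩; ⟨0, 0⟩, ⟨1, 0⟩, ⟨0, 0⟩, ⟨0, 0⟩; ⟨0, 0⟩, ⟨0, 0⟩, ⟨4, 0⟩, ⟨0, 0⟩]
def mS1 : M4 := !![⟨2, 4⟩, ⟨1, 4⟩, ⟨0, 0⟩, ⟨0, 0⟩; ⟨4, 4⟩, ⟨2, 1⟩, ⟨0, 0⟩, ⟨0, 0⟩; ⟨0, 0⟩, ⟨0, 0⟩, ⟨1, 0⟩, ⟨0, 0⟩; ⟨0, 0⟩, ⟨0, 0⟩, ⟨0, 0⟩, ⟨1, 0⟩]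
def mS2 : M4 := !![⟨2, 0⟩, ⟨2, 4⟩, ⟨0, 0⟩, ⟨0, 0⟩; ⟨3, 4⟩, ⟨2, 0⟩, ⟨0, 0⟩, ⟨0, 0⟩; ⟨0, 0⟩, ⟨0, 0⟩, ⟨1, 0⟩, ⟨0, 0⟩; ⟨0, 0⟩, ⟨0, 0⟩, ⟨0, 0⟩, ⟨1, 0⟩]
def mS3 : M4 := !![⟨2, 4⟩, ⟨4, 4⟩, ⟨0, 0⟩, ⟨0, 0⟩; ⟨1, 4⟩, ⟨2, 1⟩, ⟨0, 0⟩, ⟨0, 0⟩; ⟨0, 0⟩, ⟨0, 0⟩, ⟨1, 0⟩, ⟨0, 0⟩; ⟨0, 0⟩, ⟨0, 0⟩, ⟨0, 0⟩, ⟨1, 0⟩]
def mS4 : M4 := !![⟨2, 0⟩, ⟨3, 4⟩, ⟨0, 0⟩, ⟨0, 0⟩; ⟨2, 4⟩, ⟨2, 0⟩, ⟨0, 0⟩, ⟨0, 0⟩; ⟨0, 0⟩, ⟨0, 0⟩, ⟨1, 0⟩, ⟨0, 0⟩; ⟨0, 0⟩, ⟨0, 0⟩, ⟨0, 0⟩, ⟨1, 0⟩]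
def mS5 : M4 := !![⟨2, 0⟩, ⟨0, 2⟩, ⟨0, 0⟩, ⟨0, 0⟩; ⟨0, 2⟩, ⟨2, 0⟩, ⟨0, 0⟩, ⟨0, 0⟩; ⟨0, 0⟩, ⟨0, 0⟩, ⟨1, 0⟩, ⟨0, 0⟩; ⟨0, 0⟩, ⟨0, 0⟩, ⟨0, 0⟩, ⟨1, 0⟩]
def mG1 : M4 := !![⟨1, 4⟩, ⟨0, 3⟩, ⟨0, 0⟩, ⟨0, 0⟩; ⟨0, 3⟩, ⟨1, 1⟩, ⟨0, 0⟩, ⟨0, 0⟩; ⟨0, 0⟩, ⟨0, 0⟩, ⟨1, 0⟩, ⟨0, 0⟩; ⟨0, 0⟩, ⟨0, 0⟩, ⟨0, 0⟩, ⟨1, 0⟩]
def mG2 : M4 := !![⟨1, 2⟩, ⟨0, 1⟩, ⟨0, 0⟩, ⟨0, 0⟩; ⟨0, 1⟩, ⟨1, 3⟩, ⟨0, 0⟩, ⟨0, 0⟩; ⟨0, 0⟩, ⟨0, 0⟩, ⟨1, 0⟩, ⟨0, 0⟩; ⟨0, 0⟩, ⟨0, 0⟩, ⟨0, 0⟩, ⟨1, 0⟩]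
def mG3 : M4 := !![⟨1, 1⟩, ⟨0, 2⟩, ⟨0, 0⟩, ⟨0, 0⟩; ⟨0, 2⟩, ⟨1, 4⟩, ⟨0, 0⟩, ⟨0, 0⟩; ⟨0, 0⟩, ⟨0, 0⟩, ⟨1, 0⟩, ⟨0, 0⟩; ⟨0, 0⟩, ⟨0, 0⟩, ⟨0, 0⟩, ⟨1, 0⟩]
def mG4 : M4 := !![⟨1, 3⟩, ⟨0, 4⟩, ⟨0, 0⟩, ⟨0, 0⟩; ⟨0, 4⟩, ⟨1, 2⟩, ⟨0, 0⟩, ⟨0, 0⟩; ⟨0, 0⟩, ⟨0, 0⟩, ⟨1, 0⟩, ⟨0, 0⟩; ⟨0, 0⟩, ⟨0, 0⟩, ⟨0, 0⟩, ⟨1, 0⟩]
def mG5 : M4 := !![⟨0, 1⟩, ⟨0, 1⟩, ⟨0, 0⟩, ⟨0, 0⟩; ⟨0, 1⟩, ⟨0, 4⟩, ⟨0, 0⟩, ⟨0, 0⟩; ⟨0, 0⟩, ⟨0, 0⟩, ⟨1, 0⟩, ⟨0, 0⟩; ⟨0, 0⟩, ⟨0, 0⟩, ⟨0, 0⟩, ⟨1, 0⟩]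
def mr : M4 := !![⟨1, 4⟩, ⟨0, 2⟩, ⟨0, 0⟩, ⟨0, 0⟩; ⟨0, 2⟩, ⟨1, 1⟩, ⟨0, 0⟩, ⟨0, 0⟩; ⟨0, 0⟩, ⟨0, 0⟩, ⟨1, 0⟩, ⟨0, 0⟩; ⟨0, 0⟩, ⟨0, 0⟩, ⟨0, 0⟩, ⟨1, 0⟩]
def mg : M4 := !![⟨0, 0⟩, ⟨2, 0⟩, ⟨0, 2⟩, ⟨0, 0⟩; ⟨2, 0⟩, ⟨2, 0⟩, ⟨0, 1⟩, ⟨0, 0⟩; ⟨0, 2⟩, ⟨0, 1⟩, ⟨1, 0⟩, ⟨0, 0⟩; ⟨0, 0⟩, ⟨0, 0⟩, ⟨0, 0⟩, ⟨1, 0⟩]
def mgi : M4 := !![⟨0, 0⟩, ⟨2, 0⟩, ⟨0, 3⟩, ⟨0, 0⟩; ⟨2, 0⟩, ⟨2, 0⟩, ⟨0, 4⟩, ⟨0, 0⟩; ⟨0, 3⟩, ⟨0, 4⟩, ⟨1, 0⟩, ⟨0, 0⟩; ⟨0, 0⟩, ⟨0, 0⟩, ⟨0, 0⟩, ⟨1, 0⟩]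
def mu : M4 := !![⟨3, 4⟩, ⟨1, 2⟩, ⟨3, 2⟩, ⟨0, 0⟩; ⟨0, 1⟩, ⟨3, 2⟩, ⟨3, 4⟩, ⟨0, 0⟩; ⟨2, 2⟩, ⟨3, 1⟩, ⟨1, 3⟩, ⟨0, 0⟩; ⟨0, 0⟩, ⟨0, 0⟩, ⟨0, 0⟩, ⟨1, 0⟩]
def mu2 : M4 := !![⟨4, 0⟩, ⟨3, 2⟩, ⟨4, 4⟩, ⟨0, 0⟩; ⟨4, 0⟩, ⟨3, 3⟩, ⟨1, 4⟩, ⟨0, 0⟩; ⟨3, 0⟩, ⟨2, 0⟩, ⟨0, 1⟩, ⟨0, 0⟩; ⟨0, 0⟩, ⟨0, 0⟩, ⟨0, 0⟩, ⟨1, 0⟩]
def mu4 : M4 := !![⟨0, 0⟩, ⟨1, 1⟩, ⟨3, 4⟩, ⟨0, 0⟩; ⟨1, 4⟩, ⟨1, 4⟩, ⟨1, 2⟩, ⟨0, 0⟩; ⟨0, 3⟩, ⟨0, 4⟩, ⟨1, 0⟩, ⟨0, 0⟩; ⟨0, 0⟩, ⟨0, 0⟩, ⟨0, 0⟩, ⟨1, 0⟩]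
def ma : M4 := !![⟨0, 2⟩, ⟨0, 0⟩, ⟨3, 4⟩, ⟨3, 1⟩; ⟨0, 0⟩, ⟨0, 2⟩, ⟨3, 4⟩, ⟨2, 4⟩; ⟨2, 4⟩, ⟨2, 4⟩, ⟨0, 3⟩, ⟨0, 0⟩; ⟨2, 1⟩, ⟨3, 4⟩, ⟨0, 0⟩, ⟨0, 3⟩]
def mt : M4 := !![⟨4, 4⟩, ⟨4, 0⟩, ⟨3, 1⟩, ⟨1, 4⟩; ⟨2, 0⟩, ⟨2, 4⟩, ⟨2, 2⟩, ⟨4, 4⟩; ⟨1, 2⟩, ⟨4, 1⟩, ⟨1, 1⟩, ⟨0, 0⟩; ⟨0, 0⟩, ⟨2, 0⟩, ⟨4, 1⟩, ⟨0, 1⟩]
def mr3 : M4 := !![⟨1, 2⟩, ⟨0, 1⟩, ⟨0, 0⟩, ⟨0, 0⟩; ⟨0, 1⟩, ⟨1, 3⟩, ⟨0, 0⟩, ⟨0, 0⟩; ⟨0, 0⟩, ⟨0, 0⟩, ⟨1, 0⟩, ⟨0, 0⟩; ⟨0, 0⟩, ⟨0, 0⟩, ⟨0, 0⟩, ⟨1, 0⟩]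

def gX0 : SU4 := mk mX0 (by decide +kernel) (by decide +kernel)
def gX1 : SU4 := mk mX1 (by decide +kernel) (by decide +kernel)
def gX2 : SU4 := mk mX2 (by decide +kernel) (by decide +kernel)
def gX3 : SU4 := mk mX3 (by decide +kernel) (by decide +kernel)
def gX4 : SU4 := mk mX4 (by decide +kernel) (by decide +kernel)
def gx : SU4 := mk mx (by decide +kernel) (by decide +kernel)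
def gy : SU4 := mk my (by decide +kernel) (by decide +kernel)
def gxy : SU4 := mk mxy (by decide +kernel) (by decide +kernel)
def gj : SU4 := mk mj (by decide +kernel) (by decide +kernel)
def gs : SU4 := mk ms (by decide +kernel) (by decide +kernel)
def gw : SU4 := mk mw (by decide +kernel) (by decide +kernel)
def gS1 : SU4 := mk mS1 (by decide +kernel) (by decide +kernel)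
def gS2 : SU4 := mk mS2 (by decide +kernel) (by decide +kernel)
def gS3 : SU4 := mk mS3 (by decide +kernel) (by decide +kernel)
def gS4 : SU4 := mk mS4 (by decide +kernel) (by decide +kernel)
def gS5 : SU4 := mk mS5 (by decide +kernel) (by decide +kernel)
def gG1 : SU4 := mk mG1 (by decide +kernel) (by decide +kernel)
def gG2 : SU4 := mk mG2 (by decide +kernel) (by decide +kernel)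
def gG3 : SU4 := mk mG3 (by decide +kernel) (by decide +kernel)
def gG4 : SU4 := mk mG4 (by decide +kernel) (by decide +kernel)
def gG5 : SU4 := mk mG5 (by decide +kernel) (by decide +kernel)
def gr : SU4 := mk mr (by decide +kernel) (by decide +kernel)
def gr3 : SU4 := mk mr3 (by decide +kernel) (by decide +kernel)
def gg : SU4 := mk mg (by decide +kernel) (by decide +kernel)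
def gu : SU4 := mk mu (by decide +kernel) (by decide +kernel)
def gu2 : SU4 := mk mu2 (by decide +kernel) (by decide +kernel)
def gu4 : SU4 := mk mu4 (by decide +kernel) (by decide +kernel)
def ga : SU4 := mk ma (by decide +kernel) (by decide +kernel)
def gt : SU4 := mk mt (by decide +kernel) (by decide +kernel)

theorem pr_eq_of_smul {a b : SU4} {r : FQ} (h : mat a = r • mat b) : pr a = pr b := by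
  refine ((QuotientGroup.eq).2 (mem_center (r := r) ?_)).symm
  rw [mat_mul, h, Matrix.mul_smul, ← mat_mul, inv_mul_cancel, mat_one]

theorem pr_eq_neg {a b : SU4} (h : mat a = - mat b) : pr a = pr b :=
  pr_eq_of_smul (r := -1) (by rw [h, neg_smul, one_smul])

/-! ### The subgroup `A₇` of `PSU₄(5)` -/

/-- matrices of the generators -/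
def mX (i : ℕ) : M4 := match i with
  | 0 => mX0
  | 1 => mX1
  | 2 => mX2
  | 3 => mX3
  | _ => mX4

/-- the generators -/
def gX (i : ℕ) : SU4 := match i with
  | 0 => gX0
  | 1 => gX1
  | 2 => gX2
  | 3 => gX3
  | _ => gX4

theorem mat_gX (i : ℕ) : mat (gX i) = mX i := by
  match i with
  | 0 => rfl
  | 1 => rfl
  | 2 => rfl
  | 3 => rfl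
  | _ + 4 => rfl

theorem mX_cube : ∀ i < 5, mX i * mX i * mX i = 1 := by decide +kernel
theorem mX_sq : ∀ i < 5, ∀ j < 5, i ≠ j → (mX i * mX j) * (mX i * mX j) = -1 := by decide +kernel

theorem rel_X : Rel 5 (fun i => pr (gX i)) where
  cube i hi := by
    rw [← map_pow, ← map_one pr]
    refine pr_eq_of_smul (r := 1) ?_
    rw [one_smul, mat_one, pow_succ, pow_two, mat_mul, mat_mul, mat_gX]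
    exact mX_cube i hi
  sq i hi j hj hij := by
    rw [← map_mul, ← map_pow, ← map_one pr]
    refine pr_eq_neg ?_
    rw [mat_one, pow_two, mat_mul, mat_mul, mat_gX, mat_gX]
    exact mX_sq i hi j hj hij

/-- the 3-cycles -/
def cy (i : ℕ) (h : i < 5) : ASeven.A7 := ⟨cyc 5 i, cyc_mem 5 i h⟩

theorem x_word : ASeven.xA = cy 2 (by norm_num) * cy 0 (by norm_num) * cy 1 (by norm_num) * cy 2 (by norm_num) *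
    cy 0 (by norm_num) := ASeven.code_inj (by decide +kernel)
theorem y_word : ASeven.yA = cy 4 (by norm_num) * cy 3 (by norm_num) * cy 3 (by norm_num) :=
  ASeven.code_inj (by decide +kernel)

theorem x_mat : (mX2 * mX0 * mX1) * (mX2 * mX0) = -mx := by decide +kernel
theorem y_mat : mX4 * mX3 * mX3 = -my := by decide +kernel

theorem pr_x : pr (gX 2 * gX 0 * gX 1 * gX 2 * gX 0) = pr gx := by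
  refine pr_eq_neg ?_
  rw [mat_mul, mat_mul, mat_mul, mat_mul, mat_gX, mat_gX, mat_gX, mul_assoc (mX 2 * mX 0 * mX 1)]
  exact x_mat

theorem pr_y : pr (gX 4 * gX 3 * gX 3) = pr gy := by
  refine pr_eq_neg ?_
  rw [mat_mul, mat_mul, mat_gX, mat_gX]
  exact y_mat

/-- **`A₇` in `PSU₄(5)`.** -/
theorem exists_phi : ∃ φ : ASeven.A7 →* U4, φ ASeven.xA = pr gx ∧ φ ASeven.yA = pr gy := by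
  obtain ⟨φ, hφ⟩ := exists_hom (m := 5) (by norm_num) rel_X
  have h : ∀ i (hi : i < 5), φ (cy i hi) = pr (gX i) := hφ
  refine ⟨φ, ?_, ?_⟩
  · rw [x_word, ← pr_x]
    simp only [map_mul]
    rw [h, h, h]
  · rw [y_word, ← pr_y]
    simp only [map_mul]
    rw [h, h]

/-! ### Relations -/

theorem x_cube : gx ^ 3 = 1 := mat_inj (by rw [pow_succ, pow_two, mat_mul, mat_mul]; decide +kernel)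
theorem y_cube : gy ^ 3 = 1 := mat_inj (by rw [pow_succ, pow_two, mat_mul, mat_mul]; decide +kernel)

theorem js : gj * gy = gy * gs * gj := mat_inj (by rw [mat_mul, mat_mul, mat_mul]; decide +kernel)
theorem jx : gj * gx = gx * gj := mat_inj (by rw [mat_mul, mat_mul]; decide +kernel)
theorem w_conj : gw * (gx * gy) = gs * gw := mat_inj (by rw [mat_mul, mat_mul, mat_mul]; decide +kernel)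

theorem G1x : gG1 * gx = gx * gG1 := mat_inj (by rw [mat_mul, mat_mul]; decide +kernel)
theorem G2x : gG2 * gx = gx * gG2 := mat_inj (by rw [mat_mul, mat_mul]; decide +kernel)
theorem G3x : gG3 * gx = gx * gG3 := mat_inj (by rw [mat_mul, mat_mul]; decide +kernel)
theorem G4x : gG4 * gx = gx * gG4 := mat_inj (by rw [mat_mul, mat_mul]; decide +kernel)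
theorem G5x : gG5 * gx = gx * gG5 := mat_inj (by rw [mat_mul, mat_mul]; decide +kernel)

theorem G1s : gG1 * gs = gS1 * gG1 := mat_inj (by rw [mat_mul, mat_mul]; decide +kernel)
theorem G2s : gG2 * gs = gS2 * gG2 := mat_inj (by rw [mat_mul, mat_mul]; decide +kernel)
theorem G3s : gG3 * gs = gS3 * gG3 := mat_inj (by rw [mat_mul, mat_mul]; decide +kernel)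
theorem G4s : gG4 * gs = gS4 * gG4 := mat_inj (by rw [mat_mul, mat_mul]; decide +kernel)
theorem G5s : gG5 * gs = gS5 * gG5 := mat_inj (by rw [mat_mul, mat_mul]; decide +kernel)

theorem s_cube : gs ^ 3 = 1 := mat_inj (by rw [pow_succ, pow_two, mat_mul, mat_mul]; decide +kernel)

theorem I1 : gS4 * gS4 * (gS2 * gS1) = gS3 * gS1 * (gS1 * gr) := mat_inj (by simp only [mat_mul]; decide +kernel)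
theorem I2 : gS5 * gS4 * (gS2 * gS1) = gS3 * gS3 * (gS1 * gS1) := mat_inj (by simp only [mat_mul]; decide +kernel)
theorem I3 : gS5 * gS5 * gS4 * (gS2 * gS1) = gS2 * gS2 * (gS1 * gr3) := mat_inj (by simp only [mat_mul]; decide +kernel)
theorem r_eq : gS3 * gr = gS1 * gS5 := mat_inj (by simp only [mat_mul]; decide +kernel)
theorem r3_eq : gr3 = gr * gr * gr := mat_inj (by simp only [mat_mul]; decide +kernel)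
theorem gr_comm : gg * gr = gr * gg := mat_inj (by rw [mat_mul, mat_mul]; decide +kernel)
theorem u_eq : gu * gg = gs * gg * gs := mat_inj (by simp only [mat_mul]; decide +kernel)

theorem u2_eq : gu * gu = gu2 := mat_inj (by rw [mat_mul]; decide +kernel)
theorem u4_eq : gu2 * gu2 = gu4 := mat_inj (by rw [mat_mul]; decide +kernel)
theorem u7_eq : gu4 * gu2 * gu = 1 := mat_inj (by simp only [mat_mul]; decide +kernel)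

theorem u_pow : gu ^ 7 = 1 := by
  have h : gu ^ 7 = gu ^ 4 * gu ^ 2 * gu := by rw [← pow_add, ← pow_succ]
  have h2 : gu ^ 2 = gu2 := by rw [pow_two, u2_eq]
  have h4 : gu ^ 4 = gu4 := by
    have : gu ^ 4 = gu ^ 2 * gu ^ 2 := pow_add gu 2 2
    rw [this, h2, u4_eq]
  rw [h, h2, h4]
  exact u7_eq

theorem order_u : orderOf (pr gu) = 7 := by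
  have : Fact (Nat.Prime 7) := ⟨by norm_num⟩
  refine orderOf_eq_prime ?_ (not_central (y := gx) (by decide +kernel))
  rw [← map_pow, u_pow, map_one]

theorem x_ne : pr gx ≠ 1 := not_central (y := gg) (by decide +kernel)

end Cfsg.Agent.H413.U45.Elts
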